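import Cfsg.Agent.GenA.Redei.Theory
import Mathlib.Algebra.Algebra.ZMod
import Mathlib.LinearAlgebra.Pi

/-!
# The order bound for an `IsSPair`
-/

set_option autoImplicit false

namespace Cfsg.Agent.GenA.Redei

open scoped commutatorElement IsMulCommutative

variable {p q a : ℕ} [Fact p.Prime] [Fact q.Prime] {R : Type*} [Group R] [Finite R] {α : MulAut R}

theorem IsSPair.card_le (hpq : p ≠ q) (h : IsSPair p q α) (ha0 : 0 < a)
    (ha : a = orderOf (p : ZMod q)) {l : GaloisField p a} (hl : orderOf l = q)
    (θ : R →* Multiplicative (GaloisField p a)) (hθs : Function.Surjective θ)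
    (hker : θ.ker = commutator R) (hθ : ∀ x, (θ (α x)).toAdd = l * (θ x).toAdd) :
    Nat.card R ≤ p ^ (if a % 2 = 1 then a else 3 * a / 2) := by
  classical
  have hl0 := ne_zero_of_orderOf hl
  have hlq : l ^ q = 1 := hl ▸ pow_orderOf_eq_one l
  have hqa : a ≤ q := by
    rw [ha]
    refine le_trans (Nat.le_of_dvd ?_ (ZMod.orderOf_dvd_card_sub_one fun e => ?_)) (Nat.sub_le _ _)
    · have := (Fact.out : q.Prime).two_le; omega
    · rw [ZMod.natCast_eq_zero_iff] at e
      exact hpq ((Nat.prime_dvd_prime_iff_eq Fact.out Fact.out).1 e).symm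
  have hcen : commutator R ≤ Subgroup.center R := h.commutator_central hpq
  -- commutators only depend on the coordinates
  have hwell : ∀ x x' y : R, θ x = θ x' → ⁅x, y⁆ = ⁅x', y⁆ := by
    intro x x' y hxy
    have hc : x'⁻¹ * x ∈ Subgroup.center R := hcen (hker ▸ MonoidHom.mem_ker.2 (by
      rw [map_mul, map_inv, hxy, inv_mul_cancel]))
    have hcy : y * (x'⁻¹ * x) = (x'⁻¹ * x) * y := Subgroup.mem_center_iff.1 hc y
    calc ⁅x, y⁆ = x' * ((x'⁻¹ * x) * y) * (x'⁻¹ * x)⁻¹ * x'⁻¹ * y⁻¹ := by
          rw [commutatorElement_def]; group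
      _ = x' * (y * (x'⁻¹ * x)) * (x'⁻¹ * x)⁻¹ * x'⁻¹ * y⁻¹ := by rw [hcy]
      _ = ⁅x', y⁆ := by rw [commutatorElement_def]; group
  have hwell2 : ∀ x x' y y' : R, θ x = θ x' → θ y = θ y' → ⁅x, y⁆ = ⁅x', y'⁆ := by
    intro x x' y y' hx hy
    rw [hwell x x' y hx, ← commutatorElement_inv y x', ← commutatorElement_inv y' x',
      hwell y y' x' hy]
  choose s hs using fun z : GaloisField p a => hθs (Multiplicative.ofAdd z)
  have hmem : ∀ x y : R, ⁅x, y⁆ ∈ commutator R := fun x y =>
    Subgroup.commutator_mem_commutator (Subgroup.mem_top x) (Subgroup.mem_top y)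
  let B : GaloisField p a → GaloisField p a → Additive (Subgroup.center R) := fun z w =>
    Additive.ofMul ⟨⁅s z, s w⁆, hcen (hmem _ _)⟩
  have hBval : ∀ x y : R, ((B (θ x).toAdd (θ y).toAdd).toMul : R) = ⁅x, y⁆ := fun x y =>
    hwell2 _ _ _ _ (by rw [hs]; rfl) (by rw [hs]; rfl)
  have hBanti : ∀ z w, B w z = -B z w := fun z w =>
    Additive.toMul.injective (Subtype.ext (commutatorElement_inv (s z) (s w)).symm)
  have hBadd : ∀ z z' w, B (z + z') w = B z w + B z' w := by
    intro z z' w
    refine Additive.toMul.injective (Subtype.ext ?_)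
    show ⁅s (z + z'), s w⁆ = ⁅s z, s w⁆ * ⁅s z', s w⁆
    rw [hwell _ (s z * s z') _ (by rw [map_mul, hs, hs, hs]; rfl)]
    have hc := Subgroup.mem_center_iff.1 (hcen (hmem (s z') (s w))) (s z)
    have hc' := Subgroup.mem_center_iff.1 (hcen (hmem (s z') (s w))) ⁅s z, s w⁆
    calc ⁅s z * s z', s w⁆ = s z * ⁅s z', s w⁆ * (s z)⁻¹ * ⁅s z, s w⁆ := by
          simp only [commutatorElement_def]; group
      _ = ⁅s z', s w⁆ * s z * (s z)⁻¹ * ⁅s z, s w⁆ := by rw [hc]
      _ = ⁅s z', s w⁆ * ⁅s z, s w⁆ := by group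
      _ = ⁅s z, s w⁆ * ⁅s z', s w⁆ := hc'.symm
  have hBadd' : ∀ z w w', B z (w + w') = B z w + B z w' := fun z w w' => by
    rw [hBanti (w + w') z, hBadd, neg_add, ← hBanti, ← hBanti]
  let Bl : GaloisField p a → GaloisField p a →+ Additive (Subgroup.center R) := fun w =>
    AddMonoidHom.mk' (fun z => B z w) fun z z' => hBadd z z' w
  let Br : GaloisField p a → GaloisField p a →+ Additive (Subgroup.center R) := fun z =>
    AddMonoidHom.mk' (fun w => B z w) fun w w' => hBadd' z w w'
  have hBl : ∀ z w, B (l * z) (l * w) = B z w := by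
    intro z w
    refine Additive.toMul.injective (Subtype.ext ?_)
    show ⁅s (l * z), s (l * w)⁆ = ⁅s z, s w⁆
    rw [hwell2 _ (α (s z)) _ (α (s w))
      (Multiplicative.toAdd.injective (by rw [hθ, hs, hs]; rfl))
      (Multiplicative.toAdd.injective (by rw [hθ, hs, hs]; rfl))]
    rw [← map_commutatorElement]
    exact h.commutator_fixed _ (hmem _ _)
  have hBlk : ∀ (k : ℕ) z w, B (l ^ k * z) (l ^ k * w) = B z w := by
    intro k
    induction k with
    | zero => intro z w; simp
    | succ k ih => intro z w; rw [pow_succ', mul_assoc, mul_assoc, hBl, ih]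
  -- all values are values of `B 1`
  have hrange : ∀ z w, B z w ∈ (Br 1).range := by
    intro z w
    have hz : z ∈ AddSubgroup.closure ((fun i : ℕ => l ^ (0 + i)) '' Set.Iio a) := by
      rw [closure_window ha0 ha hl 0]; trivial
    have hle : AddSubgroup.closure ((fun i : ℕ => l ^ (0 + i)) '' Set.Iio a)
        ≤ (Br 1).range.comap (Bl w) := by
      rw [AddSubgroup.closure_le]
      rintro _ ⟨i, -, rfl⟩
      show B (l ^ (0 + i)) w ∈ (Br 1).range
      refine ⟨(l ^ (0 + i))⁻¹ * w, ?_⟩
      show B 1 _ = _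
      rw [← hBlk (0 + i) 1, mul_one, ← mul_assoc, mul_inv_cancel₀ (pow_ne_zero _ hl0), one_mul]
    exact hle hz
  -- a small generating set
  set b := a / 2 with hb
  have hB11 : B 1 1 = 0 := Additive.toMul.injective (Subtype.ext (commutatorElement_self (s 1)))
  have hBinv : ∀ k : ℕ, B 1 ((l ^ k)⁻¹) = -B 1 (l ^ k) := fun k => by
    rw [← hBlk k 1 ((l ^ k)⁻¹), mul_one, mul_inv_cancel₀ (pow_ne_zero _ hl0), hBanti]
  let F : (Fin b → ZMod p) →ₗ[ZMod p] GaloisField p a :=
    Fintype.linearCombination (ZMod p) (fun i : Fin b => l ^ (i.val + 1))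
  let G : (Fin b → ZMod p) →+ Additive (Subgroup.center R) := (Br 1).comp F.toAddMonoidHom
  have hG : ∀ k : ℕ, k ≤ b → B 1 (l ^ k) ∈ G.range := by
    intro k hk
    rcases Nat.eq_zero_or_pos k with rfl | hk0
    · rw [pow_zero, hB11]; exact zero_mem _
    refine ⟨Pi.single ⟨k - 1, by omega⟩ 1, ?_⟩
    show B 1 (F _) = _
    rw [Fintype.linearCombination_apply_single, one_smul]
    show B 1 (l ^ (k - 1 + 1)) = _
    rw [Nat.sub_add_cancel hk0]
  have hrange2 : (Br 1).range ≤ G.range := by
    rintro _ ⟨w, rfl⟩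
    have hw : w ∈ AddSubgroup.closure ((fun i : ℕ => l ^ ((q - (a - 1) / 2) + i)) '' Set.Iio a) := by
      rw [closure_window ha0 ha hl]; trivial
    have hle : AddSubgroup.closure ((fun i : ℕ => l ^ ((q - (a - 1) / 2) + i)) '' Set.Iio a)
        ≤ G.range.comap (Br 1) := by
      rw [AddSubgroup.closure_le]
      rintro _ ⟨i, hi, rfl⟩
      rw [Set.mem_Iio] at hi
      show B 1 (l ^ _) ∈ G.range
      by_cases hlt : q - (a - 1) / 2 + i < q
      · have he : l ^ (q - (a - 1) / 2 + i) = (l ^ ((a - 1) / 2 - i))⁻¹ := by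
          refine eq_inv_of_mul_eq_one_left ?_
          rw [← pow_add, show q - (a - 1) / 2 + i + ((a - 1) / 2 - i) = q by omega, hlq]
        rw [he, hBinv]
        exact neg_mem (hG _ (by omega))
      · rw [show q - (a - 1) / 2 + i = q + (i - (a - 1) / 2) by omega, pow_add, hlq, one_mul]
        exact hG _ (by omega)
    exact hle hw
  -- the bound on the derived subgroup
  have hcomm : Nat.card (commutator R) ≤ (if a % 2 = 1 then 1 else p ^ b) := by
    split_ifs with hodd
    · -- odd: everything commutes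
      suffices hB0 : ∀ z w, B z w = 0 by
        have : commutator R = ⊥ := by
          rw [commutator_eq_closure, Subgroup.closure_eq_bot_iff]
          rintro _ ⟨x, y, rfl⟩
          rw [Set.mem_singleton_iff, ← hBval, hB0]
          rfl
        rw [this, Subgroup.card_bot]
      by_contra hne
      push Not at hne
      obtain ⟨z0, w0, hne⟩ := hne
      have huniq : ∀ d d' : GaloisField p a, (∀ u w, B u (d * w) = B u (d' * w)) → d = d' := by
        intro d d' hd
        by_contra hdd
        apply hne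
        have h1 := hd z0 ((d - d')⁻¹ * w0)
        have hsplit : (d - d') * ((d - d')⁻¹ * w0) = w0 := by
          rw [← mul_assoc, mul_inv_cancel₀ (sub_ne_zero.2 hdd), one_mul]
        rw [← hsplit]
        show Br z0 _ = 0
        rw [sub_mul, map_sub]
        exact sub_eq_zero.2 h1
      have hex : ∀ z : GaloisField p a, ∃ d, ∀ u w, B (z * u) w = B u (d * w) := by
        intro z
        have hz : z ∈ AddSubgroup.closure ((fun i : ℕ => l ^ (0 + i)) '' Set.Iio a) := by
          rw [closure_window ha0 ha hl 0]; trivial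
        refine AddSubgroup.closure_induction (p := fun z _ => ∃ d, ∀ u w, B (z * u) w = B u (d * w))
          ?_ ⟨0, fun u w => ?_⟩ ?_ ?_ hz
        · rintro _ ⟨i, -, rfl⟩
          refine ⟨(l ^ (0 + i))⁻¹, fun u w => ?_⟩
          rw [← hBlk (0 + i) u, ← mul_assoc, mul_inv_cancel₀ (pow_ne_zero _ hl0), one_mul]
        · rw [zero_mul, zero_mul]
          exact ((Bl w).map_zero).trans ((Br u).map_zero).symm
        · rintro x y _ _ ⟨d, hd⟩ ⟨d', hd'⟩
          exact ⟨d + d', fun u w => by rw [add_mul, hBadd, hd, hd', ← hBadd', add_mul]⟩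
        · rintro x _ ⟨d, hd⟩
          refine ⟨-d, fun u w => ?_⟩
          rw [neg_mul, neg_mul]
          exact ((Bl w).map_neg _).trans ((congrArg Neg.neg (hd u w)).trans ((Br u).map_neg _).symm)
      choose σ hσ using hex
      let σ' : GaloisField p a →+* GaloisField p a :=
        { toFun := σ
          map_one' := huniq _ _ fun u w => by rw [← hσ, one_mul, one_mul]
          map_zero' := huniq _ _ fun u w => by
            rw [← hσ, zero_mul, zero_mul]
            exact ((Bl w).map_zero).trans ((Br u).map_zero).symm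
          map_add' := fun x y => huniq _ _ fun u w => by
            rw [← hσ, add_mul, hBadd, hσ, hσ, ← hBadd', add_mul]
          map_mul' := fun x y => huniq _ _ fun u w => by
            rw [← hσ, mul_assoc, hσ, hσ, ← mul_assoc, mul_comm (σ y) (σ x)] }
      have hσl : σ' l = l⁻¹ := huniq _ _ fun u w => by
        show B u (σ l * w) = _
        rw [← hσ, ← hBl u, ← mul_assoc l, mul_inv_cancel₀ hl0, one_mul]
      rcases even_of_inverting ha0 ha hl σ' hσl with he | hq2
      · rw [Nat.even_iff] at he; omega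
      · -- `q = 2` forces `a = 1`
        have ha1 : a ≤ 1 := by
          rw [ha]
          refine Nat.le_of_dvd one_pos ?_
          have := ZMod.orderOf_dvd_card_sub_one (p := q) (a := (p : ZMod q)) fun e => ?_
          · simpa [hq2] using this
          · rw [ZMod.natCast_eq_zero_iff] at e
            exact hpq ((Nat.prime_dvd_prime_iff_eq Fact.out Fact.out).1 e).symm
        have hb0 : b = 0 := by omega
        have := hrange2 (hrange z0 w0)
        obtain ⟨c, hc⟩ := this
        exact hne (hc.symm.trans ((congrArg G (funext fun i => absurd i.isLt (by omega))).trans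
          (map_zero G)))
    · have hle : commutator R ≤ (AddSubgroup.toSubgroup' G.range).map (Subgroup.center R).subtype := by
        rw [commutator_eq_closure, Subgroup.closure_le]
        rintro _ ⟨x, y, rfl⟩
        exact ⟨(B (θ x).toAdd (θ y).toAdd).toMul, hrange2 (hrange _ _), hBval x y⟩
      refine (Subgroup.card_le_of_le hle).trans ?_
      rw [Subgroup.card_map_of_injective (Subgroup.subtype_injective _)]
      have hsurj : Nat.card G.range ≤ Nat.card (Fin b → ZMod p) :=
        Nat.card_le_card_of_surjective G.rangeRestrict G.rangeRestrict_surjective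
      refine le_trans (le_of_eq (Nat.card_congr ?_)) (hsurj.trans ?_)
      · exact Equiv.subtypeEquiv Additive.ofMul fun _ => Iff.rfl
      · rw [Nat.card_fun, Nat.card_zmod, Nat.card_eq_fintype_card, Fintype.card_fin]
  rw [Subgroup.card_eq_card_quotient_mul_card_subgroup θ.ker, hker]
  have hq : Nat.card (R ⧸ commutator R) = p ^ a := by
    rw [← hker, Nat.card_congr (QuotientGroup.quotientKerEquivOfSurjective θ hθs).toEquiv,
      Nat.card_congr Multiplicative.toAdd, GaloisField.card p a (by omega)]
  rw [hq]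
  refine (Nat.mul_le_mul_left _ hcomm).trans (le_of_eq ?_)
  split_ifs with hodd
  · rw [mul_one]
  · rw [← pow_add]; congr 1; omega

end Cfsg.Agent.GenA.Redei
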