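import Mathlib.FieldTheory.Finite.GaloisField
import Mathlib.FieldTheory.Galois.Basic
import Mathlib.RingTheory.RootsOfUnity.PrimitiveRoots
import Mathlib.GroupTheory.PGroup
import Mathlib.Tactic

/-!
# The field generated by a primitive `q`-th root of unity in characteristic `p`
-/

set_option autoImplicit false

namespace Cfsg.Agent.GenA.Redei

variable {p q a : ℕ}

theorem a_pos (hpq : p.Coprime q) [Fact q.Prime] (ha : a = orderOf (p : ZMod q)) : 0 < a := by
  subst ha
  refine orderOf_pos_iff.2 (isOfFinOrder_iff_pow_eq_one.2 ⟨q - 1, ?_, ?_⟩)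
  · have := (Fact.out : q.Prime).two_le; omega
  · refine ZMod.pow_card_sub_one_eq_one fun e => ?_
    rw [ZMod.natCast_eq_zero_iff] at e
    exact (Fact.out : q.Prime).ne_one (Nat.eq_one_of_dvd_coprimes hpq e dvd_rfl)

theorem dvd_pow_sub_one [Fact p.Prime] (ha : a = orderOf (p : ZMod q)) (k : ℕ) :
    q ∣ p ^ k - 1 ↔ a ∣ k := by
  rw [ha, orderOf_dvd_iff_pow_eq_one, ← ZMod.natCast_eq_zero_iff,
    Nat.cast_sub (Nat.one_le_pow _ _ (Fact.out : p.Prime).pos), sub_eq_zero, Nat.cast_pow, Nat.cast_one]

/-- A primitive root in the field of `p ^ a` elements. -/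
theorem exists_root [Fact p.Prime] [Fact q.Prime] (ha0 : 0 < a) (ha : a = orderOf (p : ZMod q)) :
    ∃ l : GaloisField p a, orderOf l = q := by
  classical
  haveI : Fintype (GaloisField p a) := Fintype.ofFinite _
  have hd : q ∣ Nat.card (GaloisField p a)ˣ := by
    rw [Nat.card_units, GaloisField.card p a (by omega)]
    exact (dvd_pow_sub_one ha a).2 dvd_rfl
  obtain ⟨u, hu⟩ := exists_prime_orderOf_dvd_card' q hd
  exact ⟨u, by rw [orderOf_units, hu]⟩

/-- **Irreducibility**: an additive subgroup stable under `l` is trivial. -/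
theorem eq_top_of_invariant [Fact p.Prime] [Fact q.Prime] (ha0 : 0 < a)
    (ha : a = orderOf (p : ZMod q)) {l : GaloisField p a} (hl : orderOf l = q)
    {W : AddSubgroup (GaloisField p a)} (hW : ∀ w ∈ W, l * w ∈ W) (hne : W ≠ ⊥) : W = ⊤ := by
  classical
  have hl0 : l ≠ 0 := fun e => by
    rw [e, orderOf_zero] at hl
    exact (Fact.out : q.Prime).ne_zero hl.symm
  let A : Subring (GaloisField p a) :=
    { carrier := {z | ∀ w ∈ W, z * w ∈ W}
      one_mem' := fun w hw => by simpa using hw
      mul_mem' := fun {x y} hx hy w hw => by rw [mul_assoc]; exact hx _ (hy w hw)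
      zero_mem' := fun w _ => by simp
      add_mem' := fun {x y} hx hy w hw => by rw [add_mul]; exact add_mem (hx w hw) (hy w hw)
      neg_mem' := fun {x} hx w hw => by rw [neg_mul]; exact neg_mem (hx w hw) }
  haveI : Fintype A := Fintype.ofFinite _
  have hA : (A : Set (GaloisField p a)) = Set.univ := by
    have hd := A.toAddSubgroup.card_addSubgroup_dvd_card
    rw [GaloisField.card p a (by omega)] at hd
    obtain ⟨d, hda, hd'⟩ := (Nat.dvd_prime_pow Fact.out).1 hd
    have hq : q ∣ p ^ d - 1 := by
      have hl1 : (⟨l, hW⟩ : A) ^ q = 1 := Subtype.ext (by rw [SubmonoidClass.coe_pow, ← hl]; exact pow_orderOf_eq_one l)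
      let u : Aˣ := Units.ofPowEqOne _ q hl1 (Fact.out : q.Prime).ne_zero
      have hu : orderOf u = q := by
        rw [← orderOf_units, ← orderOf_injective A.subtype.toMonoidHom Subtype.val_injective]
        exact hl
      have h2 := orderOf_dvd_natCard u
      rw [hu] at h2
      letI : Field A := Fintype.fieldOfDomain A
      rw [Nat.card_units] at h2
      rw [← hd']
      exact h2
    have hd1 : d ≠ 0 := fun e => by
      have : Nat.card A.toAddSubgroup = 1 := by rw [hd', e, pow_zero]
      haveI : Subsingleton A := ((Nat.card_eq_one_iff_unique (α := A)).1 this).1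
      exact one_ne_zero (Subsingleton.elim (1 : A) 0)
    have had : a ≤ d := Nat.le_of_dvd (by omega) ((dvd_pow_sub_one ha d).1 hq)
    have : A.toAddSubgroup = ⊤ := AddSubgroup.eq_top_of_card_eq _ (by
      rw [hd', GaloisField.card p a (by omega), le_antisymm hda had])
    exact Set.eq_univ_of_forall fun z => (this ▸ AddSubgroup.mem_top z : z ∈ A.toAddSubgroup)
  obtain ⟨⟨w, hw⟩, hw0⟩ : ∃ w : W, w ≠ 0 := by
    by_contra hcon
    push Not at hcon
    exact hne ((AddSubgroup.eq_bot_iff_forall _).2 fun x hx => congrArg Subtype.val (hcon ⟨x, hx⟩))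
  have hw0' : w ≠ 0 := fun e => hw0 (Subtype.ext e)
  refine (AddSubgroup.eq_top_iff' _).2 fun z => ?_
  have : z * w⁻¹ ∈ A := by
    show z * w⁻¹ ∈ (A : Set _)
    rw [hA]; trivial
  simpa [hw0'] using this w hw

/-- The powers of `l` in a window of length `a` generate the field additively. -/
theorem closure_window [Fact p.Prime] [Fact q.Prime] (ha0 : 0 < a)
    (ha : a = orderOf (p : ZMod q)) {l : GaloisField p a} (hl : orderOf l = q) (s : ℕ) :
    AddSubgroup.closure ((fun i : ℕ => l ^ (s + i)) '' Set.Iio a) = ⊤ := by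
  have hl0 : l ≠ 0 := fun e => by
    rw [e, orderOf_zero] at hl
    exact (Fact.out : q.Prime).ne_zero hl.symm
  set S : ℕ → AddSubgroup (GaloisField p a) :=
    fun k => AddSubgroup.closure ((fun i : ℕ => l ^ (s + i)) '' Set.Iio k) with hS
  have hmem : ∀ {i k : ℕ}, i < k → l ^ (s + i) ∈ S k :=
    fun {i k} h => AddSubgroup.subset_closure ⟨i, h, rfl⟩
  have hmono : ∀ k, S k ≤ S (k + 1) := fun k =>
    AddSubgroup.closure_mono (Set.image_mono (Set.Iio_subset_Iio (Nat.le_succ k)))
  have hstep : ∀ k, 1 ≤ k → S (k + 1) ≤ S k → S k = ⊤ := by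
    intro k hk hle
    refine eq_top_of_invariant ha0 ha hl (fun w hw => ?_) fun e => ?_
    · refine AddSubgroup.closure_induction (p := fun w _ => l * w ∈ S k) ?_ (by simp) ?_ ?_ hw
      · rintro _ ⟨i, hi, rfl⟩
        have : l * l ^ (s + i) = l ^ (s + (i + 1)) := by ring
        rw [this]
        exact hle (hmem (Nat.succ_lt_succ hi))
      · intro x y _ _ hx hy; rw [mul_add]; exact add_mem hx hy
      · intro x _ hx; rw [mul_neg]; exact neg_mem hx
    · have h1 := hmem (show 0 < k by omega)
      rw [e, AddSubgroup.mem_bot] at h1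
      exact pow_ne_zero _ hl0 h1
  have hcard : ∀ k, k ≤ a → p ^ k ≤ Nat.card (S k) := by
    intro k
    induction k with
    | zero => intro _; rw [pow_zero]; exact Nat.card_pos
    | succ k ih =>
      intro hk
      have ih' := ih (by omega)
      have hdvd := fun T : AddSubgroup (GaloisField p a) =>
        (Nat.dvd_prime_pow (Fact.out : p.Prime)).1
          (GaloisField.card p a (by omega) ▸ T.card_addSubgroup_dvd_card)
      obtain ⟨u, -, hu⟩ := hdvd (S k)
      obtain ⟨v, -, hv⟩ := hdvd (S (k + 1))
      rw [hu] at ih'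
      rw [hv]
      refine Nat.pow_le_pow_right (Fact.out : p.Prime).pos ?_
      have hku := (Nat.pow_le_pow_iff_right (Fact.out : p.Prime).one_lt).1 ih'
      by_contra hlt
      have hle : S (k + 1) ≤ S k := by
        refine le_of_eq (AddSubgroup.eq_of_le_of_card_ge (hmono k) ?_).symm
        rw [hu, hv]
        exact Nat.pow_le_pow_right (Fact.out : p.Prime).pos (by omega)
      rcases Nat.eq_zero_or_pos k with rfl | hk1
      · have hbot : S 0 = ⊥ := by simp [hS]
        have h1 := hle (hmem (show 0 < 0 + 1 by omega))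
        rw [hbot, AddSubgroup.mem_bot] at h1
        exact pow_ne_zero _ hl0 h1
      · have htop := hstep k hk1 hle
        rw [htop, AddSubgroup.card_top, GaloisField.card p a (by omega)] at hu
        have hua := Nat.pow_right_injective (Fact.out : p.Prime).two_le hu
        have htop' : S (k + 1) = ⊤ := top_le_iff.1 (htop ▸ hmono k)
        rw [htop', AddSubgroup.card_top, GaloisField.card p a (by omega)] at hv
        have hva := Nat.pow_right_injective (Fact.out : p.Prime).two_le hv
        omega
  refine AddSubgroup.eq_top_of_le_card _ ?_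
  rw [GaloisField.card p a (by omega)]
  exact hcard a le_rfl

/-- An automorphism inverting `l` forces `a` even, unless `l` is an involution. -/
theorem even_of_inverting [Fact p.Prime] [Fact q.Prime] (ha0 : 0 < a)
    (ha : a = orderOf (p : ZMod q)) {l : GaloisField p a} (hl : orderOf l = q)
    (σ : GaloisField p a →+* GaloisField p a) (hσ : σ l = l⁻¹) : Even a ∨ q = 2 := by
  classical
  by_cases hinv : l⁻¹ = l
  · right
    have hl0 : l ≠ 0 := fun e => by
      rw [e, orderOf_zero] at hl
      exact (Fact.out : q.Prime).ne_zero hl.symm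
    have h2 : l ^ 2 = 1 := by
      rw [pow_two]
      nth_rw 1 [← hinv]
      exact inv_mul_cancel₀ hl0
    exact (Nat.prime_dvd_prime_iff_eq Fact.out Nat.prime_two).1 (hl ▸ orderOf_dvd_of_pow_eq_one h2)
  left
  have hbij : Function.Bijective σ := Finite.injective_iff_bijective.1 σ.injective
  let e : GaloisField p a ≃ₐ[ZMod p] GaloisField p a :=
    AlgEquiv.ofRingEquiv (f := RingEquiv.ofBijective σ hbij) fun r => by
      show σ (algebraMap (ZMod p) (GaloisField p a) r) = algebraMap (ZMod p) (GaloisField p a) r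
      exact RingHom.congr_fun (Subsingleton.elim (σ.comp (algebraMap (ZMod p) (GaloisField p a)))
        (algebraMap (ZMod p) (GaloisField p a))) r
  have hfix : ∀ z, e (e z) = z := by
    intro z
    set Sg := (RingHom.eqLocus (σ.comp σ) (RingHom.id _)).toAddSubgroup
    have hl2 : ∀ i : ℕ, l ^ (0 + i) ∈ Sg := fun i => by
      show σ (σ (l ^ (0 + i))) = l ^ (0 + i)
      simp [map_pow, hσ, map_inv₀]
    have htop : Sg = ⊤ := top_le_iff.1 (closure_window ha0 ha hl 0 ▸
      (AddSubgroup.closure_le _).2 (by rintro _ ⟨i, -, rfl⟩; exact hl2 i))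
    exact (htop ▸ AddSubgroup.mem_top z : z ∈ Sg)
  have he2 : orderOf e = 2 := by
    refine orderOf_eq_prime (by ext z; exact hfix z) fun h1 => hinv ?_
    rw [← hσ]
    exact AlgEquiv.congr_fun h1 l
  haveI : Fintype (GaloisField p a ≃ₐ[ZMod p] GaloisField p a) := Fintype.ofFinite _
  have hc := orderOf_dvd_natCard e
  rw [he2, IsGalois.card_aut_eq_finrank, GaloisField.finrank p (by omega)] at hc
  exact even_iff_two_dvd.2 hc

end Cfsg.Agent.GenA.Redei
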