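import Cfsg.Agent.GenA.Redei.Univ

/-!
# Assembling the universal minimal non-`p`-nilpotent group
-/

set_option autoImplicit false

universe u

namespace Cfsg.Agent.GenA.Redei

open Cfsg.Agent.Transfer.NormalPComplement

variable {p q a : ℕ} [Fact p.Prime] [Fact q.Prime]

theorem IsSPair.congr {R R' : Type*} [Group R] [Group R'] {α : MulAut R} {β : MulAut R'}
    (h : IsSPair p q α) (e : R ≃* R') (he : ∀ x, e (α x) = β (e x)) : IsSPair p q β := by
  have hk : ∀ (k : ℕ) x, e ((α ^ k) x) = (β ^ k) (e x) := by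
    intro k
    induction k with
    | zero => intro x; rfl
    | succ k ih => intro x; rw [pow_succ', pow_succ', MulAut.mul_apply, MulAut.mul_apply, he, ih]
  refine ⟨h.isP.of_equiv e, MulEquiv.ext fun y => ?_, fun e' => h.ne_one (MulEquiv.ext fun x => ?_),
    fun H hH hinv y hy => ?_⟩
  · obtain ⟨x, rfl⟩ := e.surjective y
    rw [← hk, h.pow_eq]; rfl
  · apply e.injective
    rw [he, e']; rfl
  · obtain ⟨x, rfl⟩ := e.surjective y
    rw [← he, h.fixed (H.comap e.toMonoidHom) (fun e' => hH ?_)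
      (fun z hz => by
        rw [Subgroup.mem_comap, MulEquiv.coe_toMonoidHom, he]
        exact hinv _ hz) x hy]
    rw [← Subgroup.map_comap_eq_self_of_surjective (f := e.toMonoidHom) e.surjective H, e',
      Subgroup.map_top_of_surjective _ e.surjective]

/-- The maximal `IsSPair`, normalised so that the automorphism induces multiplication by `l`. -/
theorem exists_max_spair (hpq : p ≠ q) (ha : a = orderOf (p : ZMod q))
    {l : GaloisField p a} (hl : orderOf l = q) :
    ∃ (R : Type) (_ : Group R) (_ : Finite R) (α : MulAut R)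
      (θ : R →* Multiplicative (GaloisField p a)), IsSPair p q α ∧ Function.Surjective θ ∧
      (∀ x, (θ (α x)).toAdd = l * (θ x).toAdd) ∧
      Nat.card R = p ^ (if a % 2 = 1 then a else 3 * a / 2) := by
  have ha0 : 0 < a := a_pos ((Nat.coprime_primes Fact.out Fact.out).2 hpq) ha
  obtain ⟨R, iG, iF, α, hα, hcard⟩ : ∃ (R : Type) (_ : Group R) (_ : Finite R) (α : MulAut R),
      IsSPair p q α ∧ Nat.card R = p ^ (if a % 2 = 1 then a else 3 * a / 2) := by
    split_ifs with hodd
    · exact exists_abelian_model ha0 ha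
    · have h1 : a = 2 * (a / 2) := by omega
      obtain ⟨R, iG, iF, α, hα, hcard⟩ :=
        exists_heisenberg_model (p := p) (q := q) (b := a / 2) (by omega) h1 ha
      exact ⟨R, iG, iF, α, hα, by rw [hcard]; congr 1; omega⟩
  letI := iG; haveI := iF
  obtain ⟨i, hi, θ, hθs, -, hθ⟩ := hα.exists_coord hpq ha0 ha hl
  exact ⟨R, iG, iF, α ^ i, θ, hα.pow hi, hθs, hθ, hcard⟩

/-- The hom from a cyclic group determined by an element killed by `n`. -/
def cyclicHom {G : Type*} [Group G] (n : ℕ) (g : G) (hg : g ^ n = 1) :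
    Multiplicative (ZMod n) →* G :=
  AddMonoidHom.toMultiplicativeLeft
    (ZMod.lift n ⟨zmultiplesHom (Additive G) (Additive.ofMul g), by
      rw [zmultiplesHom_apply, natCast_zsmul, ← ofMul_pow, hg, ofMul_one]⟩)

theorem cyclicHom_one {G : Type*} [Group G] (n : ℕ) (g : G) (hg : g ^ n = 1) :
    cyclicHom n g hg (Multiplicative.ofAdd 1) = g := by
  show Additive.toMul (ZMod.lift n _ (1 : ZMod n)) = g
  rw [← Int.cast_one (R := ZMod n), ZMod.lift_coe]
  simp

theorem exists_pow_gen {n : ℕ} [NeZero n] (c : Multiplicative (ZMod n)) :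
    ∃ k : ℕ, c = Multiplicative.ofAdd (1 : ZMod n) ^ k :=
  ⟨c.toAdd.val, by rw [← ofAdd_nsmul, nsmul_one, ZMod.natCast_zmod_val]; rfl⟩

theorem orderOf_gen (n : ℕ) [NeZero n] :
    orderOf (Multiplicative.ofAdd (1 : ZMod n)) = n := by
  rw [orderOf_ofAdd_eq_addOrderOf, ZMod.addOrderOf_one]

theorem universal (p q r : ℕ) [Fact p.Prime] [Fact q.Prime] (hpq : p ≠ q) (hr : 1 ≤ r) (a a₀ : ℕ)
    (ha : a = orderOf (p : ZMod q)) (ha₀ : a₀ = if a % 2 = 1 then a else 3 * a / 2) :
    ∃ (G₀ : Type u) (_ : Group G₀) (_ : Finite G₀),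
      (¬ Cfsg.HasNormalPComplement p G₀ ∧
        ∀ K : Subgroup G₀, K ≠ ⊤ → Cfsg.HasNormalPComplement p ↥K) ∧
      Nat.card G₀ = p ^ a₀ * q ^ r ∧
      ∀ (X : Type u) [Group X] [Finite X],
        (¬ Cfsg.HasNormalPComplement p X ∧
          ∀ K : Subgroup X, K ≠ ⊤ → Cfsg.HasNormalPComplement p ↥K) →
        (∃ t : ℕ, Nat.card X = p ^ t * q ^ r) →
        ∃ φ : G₀ →* X, Function.Surjective φ ∧ φ.ker ≤ Subgroup.center G₀ := by
  have ha0 : 0 < a := a_pos ((Nat.coprime_primes Fact.out Fact.out).2 hpq) ha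
  obtain ⟨l, hl⟩ := exists_root (p := p) (q := q) ha0 ha
  obtain ⟨R0, _, _, α0, θ0, h0, hs0, hθ0, hR0⟩ := exists_max_spair hpq ha hl
  rw [← ha₀] at hR0
  set n := q ^ r with hn
  haveI : NeZero n := ⟨pow_ne_zero _ (Fact.out : q.Prime).ne_zero⟩
  have hα0n : α0 ^ n = 1 := by
    obtain ⟨k, rfl⟩ : ∃ k, r = k + 1 := ⟨r - 1, by omega⟩
    rw [hn, pow_succ', pow_mul, h0.pow_eq, one_pow]
  set ψ := cyclicHom n α0 hα0n with hψ
  have hψ1 : ψ (Multiplicative.ofAdd 1) = α0 := cyclicHom_one _ _ _
  let S := R0 ⋊[ψ] Multiplicative (ZMod n)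
  haveI : Finite S := Finite.of_equiv _ SemidirectProduct.equivProd.symm
  have hScard : Nat.card S = p ^ a₀ * q ^ r := by
    rw [SemidirectProduct.card, hR0, Nat.card_congr Multiplicative.toAdd, Nat.card_zmod]
  let N : Subgroup S := (SemidirectProduct.inl : R0 →* S).range
  haveI : N.Normal := by
    show (SemidirectProduct.inl : R0 →* S).range.Normal
    rw [SemidirectProduct.range_inl_eq_ker_rightHom]
    infer_instance
  let w : S := SemidirectProduct.inr (Multiplicative.ofAdd 1)
  have hS : ¬ HasNormalPComplement p S ∧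
      ∀ K : Subgroup S, K ≠ ⊤ → HasNormalPComplement p K := by
    refine minimal_of_spair hpq N w ?_ ?_ hScard ?_ ?_
    · rw [← hR0]
      exact (Nat.card_congr (MonoidHom.ofInjective SemidirectProduct.inl_injective).toEquiv).symm
    · rw [orderOf_injective _ SemidirectProduct.inr_injective, orderOf_gen]
    · refine (Subgroup.eq_top_iff' _).2 fun g => ?_
      rw [← SemidirectProduct.inl_left_mul_inr_right g]
      obtain ⟨k, hk⟩ := exists_pow_gen g.right
      refine Subgroup.mul_mem_sup ⟨g.left, rfl⟩ ?_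
      rw [hk, map_pow]
      exact Subgroup.pow_mem _ (Subgroup.mem_zpowers w) k
    · refine h0.congr (MonoidHom.ofInjective SemidirectProduct.inl_injective) fun x =>
        Subtype.ext ?_
      show (SemidirectProduct.inl (α0 x) : S) = w * SemidirectProduct.inl x * w⁻¹
      rw [← hψ1, SemidirectProduct.inl_aut, map_inv]
  refine ⟨ULift.{u} S, inferInstance, inferInstance, ⟨?_, ?_⟩, ?_, ?_⟩
  · exact fun h => hS.1 ((hasNormalPComplement_congr (MulEquiv.ulift : ULift.{u} S ≃* S)).1 h)
  · intro K hK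
    refine (hasNormalPComplement_congr
      (K.equivMapOfInjective (MulEquiv.ulift : ULift.{u} S ≃* S).toMonoidHom
        MulEquiv.ulift.injective)).2 (hS.2 _ fun e => hK ?_)
    rw [← Subgroup.comap_map_eq_self_of_injective
      (f := (MulEquiv.ulift : ULift.{u} S ≃* S).toMonoidHom) MulEquiv.ulift.injective K, e,
      Subgroup.comap_top]
  · rw [Nat.card_congr Equiv.ulift]
    exact hScard
  intro X _ _ hX hXc
  obtain ⟨t, ht⟩ := hXc
  obtain ⟨P, hPn, x, hPc, hx, hgen, hpair⟩ := exists_spair_of_minimal hpq hX ht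
  obtain ⟨i, hi, θ, hθs, -, hθ⟩ := hpair.exists_coord hpq ha0 ha hl
  have hpair' := hpair.pow hi
  rw [← map_pow] at hpair' hθ
  have hxi : orderOf (x ^ i) = n := by
    rw [Nat.Coprime.orderOf_pow, hx]
    rw [hx]
    exact Nat.Coprime.pow_left r ((Fact.out : q.Prime).coprime_iff_not_dvd.2 hi)
  have hzp : Subgroup.zpowers (x ^ i) = Subgroup.zpowers x := by
    refine Subgroup.eq_of_le_of_card_ge (Subgroup.zpowers_le.2 (Subgroup.pow_mem _
      (Subgroup.mem_zpowers x) i)) ?_
    rw [Nat.card_zpowers, Nat.card_zpowers, hxi, hx]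
  set y := x ^ i with hy
  obtain ⟨φ, hφs, hφe, hφk⟩ := exists_cover hpq ha0 ha hl h0 hpair' θ0 hs0 hθ0 θ hθs hθ
    (by rw [hR0, ha₀])
  set g := cyclicHom n y (hxi ▸ pow_orderOf_eq_one y) with hg
  have hg1 : g (Multiplicative.ofAdd 1) = y := cyclicHom_one _ _ _
  have hcompat : ∀ c, (P.subtype.comp φ).comp (ψ c).toMonoidHom =
      (MulAut.conj (g c)).toMonoidHom.comp (P.subtype.comp φ) := by
    intro c
    obtain ⟨k, rfl⟩ := exists_pow_gen c
    refine MonoidHom.ext fun z => ?_
    simp only [map_pow, hψ1, hg1, MonoidHom.comp_apply, MulEquiv.coe_toMonoidHom]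
    have hk : φ ((α0 ^ k) z) = ((MulAut.conjNormal y : MulAut P) ^ k) (φ z) := by
      induction k with
      | zero => simp
      | succ k ih => rw [pow_succ', pow_succ', MulAut.mul_apply, MulAut.mul_apply, hφe, ih]
    show ((φ ((α0 ^ k) z) : P) : X) = ((MulAut.conj y) ^ k) (φ z : X)
    rw [hk, ← map_pow (MulAut.conjNormal : X →* MulAut P), ← map_pow, MulAut.conjNormal_apply,
      MulAut.conj_apply]
  let F : S →* X := SemidirectProduct.lift (P.subtype.comp φ) g hcompat
  refine ⟨F.comp (MulEquiv.ulift : ULift.{u} S ≃* S).toMonoidHom, ?_, ?_⟩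
  · refine Function.Surjective.comp (g := F) ?_ (MulEquiv.ulift : ULift.{u} S ≃* S).surjective
    rw [← MonoidHom.range_eq_top, eq_top_iff, ← hgen, ← hzp]
    refine sup_le (fun z hz => ?_) (Subgroup.zpowers_le.2 ⟨w, ?_⟩)
    · obtain ⟨v, hv⟩ := hφs ⟨z, hz⟩
      exact ⟨SemidirectProduct.inl v, (SemidirectProduct.lift_inl (P.subtype.comp φ) g hcompat v).trans
        (congrArg Subtype.val hv)⟩
    · exact (SemidirectProduct.lift_inr (P.subtype.comp φ) g hcompat _).trans hg1
  · intro z hz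
    rw [MonoidHom.mem_ker] at hz
    set v : S := (MulEquiv.ulift : ULift.{u} S ≃* S) z with hv
    have hsplit : (φ v.left : X) * g v.right = 1 := hz
    obtain ⟨k, hk⟩ := exists_pow_gen v.right
    have hgr : g v.right = y ^ k := by rw [hk, map_pow, hg1]
    have hdis : Disjoint P (Subgroup.zpowers y) := by
      rw [disjoint_iff]
      refine Subgroup.card_eq_one.1 (Nat.eq_one_of_dvd_coprimes
        (Nat.Coprime.pow t r ((Nat.coprime_primes Fact.out Fact.out).2 hpq)) ?_ ?_)
      · exact hPc ▸ Subgroup.card_dvd_of_le inf_le_left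
      · rw [← hn, ← hxi, ← Nat.card_zpowers]
        exact Subgroup.card_dvd_of_le inf_le_right
    have hyk : y ^ k = 1 := by
      refine (Subgroup.disjoint_def.1 hdis) ?_ (Subgroup.pow_mem _ (Subgroup.mem_zpowers y) k)
      rw [← hgr, eq_inv_of_mul_eq_one_right hsplit]
      exact P.inv_mem (φ v.left).2
    have hr1 : v.right = 1 := by
      rw [hk, ← orderOf_dvd_iff_pow_eq_one, orderOf_gen, ← hxi]
      exact orderOf_dvd_of_pow_eq_one hyk
    have hl1 : φ v.left = 1 := by
      rw [hgr, hyk, mul_one] at hsplit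
      exact Subtype.ext hsplit
    obtain ⟨hcz, hfix⟩ := hφk _ (MonoidHom.mem_ker.2 hl1)
    rw [Subgroup.mem_center_iff]
    intro z'
    apply (MulEquiv.ulift : ULift.{u} S ≃* S).injective
    rw [map_mul, map_mul, ← hv]
    generalize (MulEquiv.ulift : ULift.{u} S ≃* S) z' = s
    obtain ⟨k', hk'⟩ := exists_pow_gen s.right
    have hfixk : (ψ s.right) v.left = v.left := by
      rw [hk', map_pow, hψ1]
      exact pow_apply_fixed hfix k'
    refine SemidirectProduct.ext ?_ ?_
    · rw [SemidirectProduct.mul_left, SemidirectProduct.mul_left, hfixk, hr1, map_one,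
        MulAut.one_apply]
      exact Subgroup.mem_center_iff.1 hcz _
    · rw [SemidirectProduct.mul_right, SemidirectProduct.mul_right, hr1, one_mul, mul_one]

end Cfsg.Agent.GenA.Redei
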