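import Cfsg.Agent.GenA.Redei.Field
import Mathlib.GroupTheory.Index
import Mathlib.Algebra.Group.End
import Mathlib.RingTheory.Polynomial.Basic

/-!
# The two models of the normal Sylow subgroup of a minimal non-`p`-nilpotent group
-/

set_option autoImplicit false

namespace Cfsg.Agent.GenA.Redei

/-- A `p`-group with an automorphism of order `q` centralising each proper invariant subgroup. -/
structure IsSPair (p q : ℕ) {R : Type*} [Group R] (α : MulAut R) : Prop where
  isP : IsPGroup p R
  pow_eq : α ^ q = 1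
  ne_one : α ≠ 1
  fixed : ∀ H : Subgroup R, H ≠ ⊤ → (∀ h ∈ H, α h ∈ H) → ∀ h ∈ H, α h = h

variable {p q a : ℕ} [Fact p.Prime] [Fact q.Prime]

theorem ne_zero_of_orderOf {l : GaloisField p a} (hl : orderOf l = q) : l ≠ 0 := fun e => by
  rw [e, orderOf_zero] at hl
  exact (Fact.out : q.Prime).ne_zero hl.symm

theorem ne_one_of_orderOf {l : GaloisField p a} (hl : orderOf l = q) : l ≠ 1 := fun e => by
  rw [e, orderOf_one] at hl
  exact (Fact.out : q.Prime).ne_one hl.symm

/-- The elementary abelian model. -/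
theorem exists_abelian_model (ha0 : 0 < a) (ha : a = orderOf (p : ZMod q)) :
    ∃ (R : Type) (_ : Group R) (_ : Finite R) (α : MulAut R),
      IsSPair p q α ∧ Nat.card R = p ^ a := by
  obtain ⟨l, hl⟩ := exists_root (p := p) (q := q) ha0 ha
  have hl0 := ne_zero_of_orderOf hl
  let α : MulAut (Multiplicative (GaloisField p a)) :=
    AddEquiv.toMultiplicative
      { toFun := fun z => l * z
        invFun := fun z => l⁻¹ * z
        left_inv := fun z => by simp [← mul_assoc, hl0]
        right_inv := fun z => by simp [← mul_assoc, hl0]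
        map_add' := fun z w => mul_add l z w }
  have hαk : ∀ (k : ℕ) (z : Multiplicative (GaloisField p a)),
      (α ^ k) z = Multiplicative.ofAdd (l ^ k * z.toAdd) := by
    intro k
    induction k with
    | zero => intro z; simp
    | succ k ih =>
      intro z
      rw [pow_succ', MulAut.mul_apply, ih]
      show Multiplicative.ofAdd (l * (l ^ k * z.toAdd)) = _
      rw [← mul_assoc, ← pow_succ']
  have hcard : Nat.card (Multiplicative (GaloisField p a)) = p ^ a :=
    (Nat.card_congr Multiplicative.toAdd).trans (GaloisField.card p a (by omega))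
  refine ⟨_, inferInstance, inferInstance, α, ⟨IsPGroup.of_card hcard, ?_, ?_, ?_⟩, hcard⟩
  · refine MulEquiv.ext fun z => ?_
    rw [hαk, ← hl, pow_orderOf_eq_one, one_mul]
    rfl
  · intro e
    have := hαk 1 (Multiplicative.ofAdd (1 : GaloisField p a))
    rw [pow_one, e, MulAut.one_apply, pow_one, toAdd_ofAdd, mul_one] at this
    exact ne_one_of_orderOf hl (Multiplicative.ofAdd.injective this).symm
  · intro H hH hinv h hh
    by_cases hbot : H = ⊥
    · rw [hbot, Subgroup.mem_bot] at hh
      rw [hh, map_one]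
    exfalso
    apply hH
    have htop := eq_top_of_invariant ha0 ha hl (W := Subgroup.toAddSubgroup' H)
      (fun w hw => hinv _ hw) fun e => hbot ((Subgroup.eq_bot_iff_forall _).2 fun x hx => by
        have : x.toAdd ∈ Subgroup.toAddSubgroup' H := hx
        rw [e, AddSubgroup.mem_bot] at this
        exact Multiplicative.toAdd.injective this)
    exact (Subgroup.eq_top_iff' _).2 fun x => (htop ▸ AddSubgroup.mem_top x.toAdd :
      x.toAdd ∈ Subgroup.toAddSubgroup' H)

/-- The `p ^ b`-power map. -/
noncomputable abbrev conjHom (p : ℕ) [Fact p.Prime] (a b : ℕ) :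
    GaloisField p a →+* GaloisField p a :=
  iterateFrobenius (GaloisField p a) p b

/-- The Hermitian Heisenberg group. -/
abbrev Herm (p : ℕ) [Fact p.Prime] (a b : ℕ) : Type :=
  {v : GaloisField p a × GaloisField p a // v.2 + conjHom p a b v.2 = -(v.1 * conjHom p a b v.1)}

theorem conj_conj {b : ℕ} (hab : a = 2 * b) (hb : 0 < b) (z : GaloisField p a) :
    conjHom p a b (conjHom p a b z) = z := by
  classical
  haveI : Fintype (GaloisField p a) := Fintype.ofFinite _
  rw [iterateFrobenius_def, iterateFrobenius_def, ← pow_mul, ← pow_add, ← two_mul, ← hab]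
  have h := FiniteField.pow_card z
  rwa [← Nat.card_eq_fintype_card, GaloisField.card p a (by omega)] at h

theorem card_roots_le {b : ℕ} (hb : 0 < b) (e : GaloisField p a) :
    Nat.card {z : GaloisField p a // conjHom p a b z + e * z = 0} ≤ p ^ b := by
  classical
  open Polynomial in
  set f : Polynomial (GaloisField p a) := Polynomial.X ^ p ^ b + Polynomial.C e * Polynomial.X with hf
  have h1 : 1 < p ^ b := Nat.one_lt_pow (by omega) (Fact.out : p.Prime).one_lt
  have hlt : (Polynomial.C e * Polynomial.X).degree < ((p ^ b : ℕ) : WithBot ℕ) :=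
    (Polynomial.degree_C_mul_X_le e).trans_lt (by exact_mod_cast h1)
  have hdeg : f.natDegree = p ^ b := by
    apply Polynomial.natDegree_eq_of_degree_eq_some
    rw [hf, Polynomial.degree_add_eq_left_of_degree_lt (by rwa [Polynomial.degree_X_pow]),
      Polynomial.degree_X_pow]
  have hne : f ≠ 0 := Polynomial.ne_zero_of_natDegree_gt (n := 0) (by omega)
  rw [← hdeg, Nat.subtype_card f.roots.toFinset (fun z => ?_)]
  · exact (Multiset.toFinset_card_le _).trans (Polynomial.card_roots' f)
  · rw [Multiset.mem_toFinset, Polynomial.mem_roots hne, Polynomial.IsRoot.def]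
    simp [hf, iterateFrobenius_def]

/-- The nonabelian model. -/
theorem exists_heisenberg_model {b : ℕ} (hb : 0 < b) (hab : a = 2 * b)
    (ha : a = orderOf (p : ZMod q)) :
    ∃ (R : Type) (_ : Group R) (_ : Finite R) (α : MulAut R),
      IsSPair p q α ∧ Nat.card R = p ^ (3 * b) := by
  have ha0 : 0 < a := by omega
  obtain ⟨l, hl⟩ := exists_root (p := p) (q := q) ha0 ha
  have hl0 := ne_zero_of_orderOf hl
  set c := conjHom p a b with hc
  have hcc : ∀ z, c (c z) = z := conj_conj hab hb
  have hlc : l * c l = 1 := by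
    have h1 : q ∣ p ^ b + 1 := by
      rw [← ZMod.natCast_eq_zero_iff, Nat.cast_add, Nat.cast_pow, Nat.cast_one]
      have h2 : ((p : ZMod q) ^ b) * (p : ZMod q) ^ b = 1 := by
        rw [← pow_add, ← two_mul, ← hab, ha, pow_orderOf_eq_one]
      rcases mul_self_eq_one_iff.1 h2 with h | h
      · exfalso
        have := Nat.le_of_dvd hb (ha ▸ orderOf_dvd_of_pow_eq_one h)
        omega
      · rw [h, neg_add_cancel]
    rw [hc, iterateFrobenius_def, ← pow_succ', ← orderOf_dvd_iff_pow_eq_one, hl]
    exact h1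
  letI : Group (Herm p a b) :=
    { mul := fun u v => ⟨(u.1.1 + v.1.1, u.1.2 + v.1.2 - c u.1.1 * v.1.1), by
        have hu : u.1.2 + c u.1.2 = -(u.1.1 * c u.1.1) := u.2
        have hv : v.1.2 + c v.1.2 = -(v.1.1 * c v.1.1) := v.2
        show _ + c _ = -(_ * c _)
        simp only [map_add, map_sub, map_mul, hcc]
        linear_combination hu + hv⟩
      one := ⟨(0, 0), by simp⟩
      inv := fun u => ⟨(-u.1.1, c u.1.2), by
        have hu : u.1.2 + c u.1.2 = -(u.1.1 * c u.1.1) := u.2
        show _ + c _ = -(_ * c _)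
        simp only [map_neg, hcc]
        linear_combination hu⟩
      mul_assoc := fun u v w => Subtype.ext (by
        show (u.1.1 + v.1.1 + w.1.1, u.1.2 + v.1.2 - c u.1.1 * v.1.1 + w.1.2 - c (u.1.1 + v.1.1) * w.1.1) =
          (u.1.1 + (v.1.1 + w.1.1), u.1.2 + (v.1.2 + w.1.2 - c v.1.1 * w.1.1) - c u.1.1 * (v.1.1 + w.1.1))
        simp only [map_add, Prod.mk.injEq]
        exact ⟨add_assoc _ _ _, by ring⟩)
      one_mul := fun u => Subtype.ext (by
        show (0 + u.1.1, 0 + u.1.2 - c 0 * u.1.1) = u.1
        simp)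
      mul_one := fun u => Subtype.ext (by
        show (u.1.1 + 0, u.1.2 + 0 - c u.1.1 * 0) = u.1
        simp)
      inv_mul_cancel := fun u => Subtype.ext (by
        have hu : u.1.2 + c u.1.2 = -(u.1.1 * c u.1.1) := u.2
        show (-u.1.1 + u.1.1, c u.1.2 + u.1.2 - c (-u.1.1) * u.1.1) = (0, 0)
        simp only [map_neg, Prod.mk.injEq]
        exact ⟨neg_add_cancel _, by linear_combination hu⟩) }
  have hmul : ∀ u v : Herm p a b, (u * v).1 = (u.1.1 + v.1.1, u.1.2 + v.1.2 - c u.1.1 * v.1.1) :=
    fun _ _ => rfl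
  let α : MulAut (Herm p a b) :=
    { toFun := fun u => ⟨(l * u.1.1, u.1.2), by
        have hu : u.1.2 + c u.1.2 = -(u.1.1 * c u.1.1) := u.2
        show _ + c _ = -(_ * c _)
        rw [hu, map_mul, show l * u.1.1 * (c l * c u.1.1) = (l * c l) * (u.1.1 * c u.1.1) by ring, hlc,
          one_mul]⟩
      invFun := fun u => ⟨(l⁻¹ * u.1.1, u.1.2), by
        have hu : u.1.2 + c u.1.2 = -(u.1.1 * c u.1.1) := u.2
        show _ + c _ = -(_ * c _)
        rw [hu, map_mul, map_inv₀,
          show l⁻¹ * u.1.1 * ((c l)⁻¹ * c u.1.1) = (l * c l)⁻¹ * (u.1.1 * c u.1.1) by rw [mul_inv]; ring,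
          hlc, inv_one, one_mul]⟩
      left_inv := fun u => Subtype.ext (by simp [← mul_assoc, hl0])
      right_inv := fun u => Subtype.ext (by simp [← mul_assoc, hl0])
      map_mul' := fun u v => Subtype.ext (by
        show (l * (u.1.1 + v.1.1), u.1.2 + v.1.2 - c u.1.1 * v.1.1) =
          (l * u.1.1 + l * v.1.1, u.1.2 + v.1.2 - c (l * u.1.1) * (l * v.1.1))
        rw [map_mul, show c l * c u.1.1 * (l * v.1.1) = (l * c l) * (c u.1.1 * v.1.1) by ring, hlc,
          one_mul, mul_add]) }
  have hα : ∀ u : Herm p a b, (α u).1 = (l * u.1.1, u.1.2) := fun _ => rfl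
  -- trace and difference
  let Tr : GaloisField p a →+ GaloisField p a := AddMonoidHom.id _ + c.toAddMonoidHom
  let Df : GaloisField p a →+ GaloisField p a := c.toAddMonoidHom - AddMonoidHom.id _
  have hTr : ∀ z, Tr z = z + c z := fun _ => rfl
  have hDf : ∀ z, Df z = c z - z := fun _ => rfl
  have hcardK : Nat.card (GaloisField p a) = p ^ b * p ^ b := by
    rw [GaloisField.card p a (by omega), hab, two_mul, pow_add]
  have hkerTr : Nat.card Tr.ker ≤ p ^ b := by
    refine le_trans (le_of_eq (Nat.card_congr (Equiv.subtypeEquivRight fun z => ?_)))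
      (card_roots_le (p := p) (a := a) hb 1)
    rw [AddMonoidHom.mem_ker, hTr, one_mul, add_comm]
  have hkerDf : Nat.card Df.ker ≤ p ^ b := by
    refine le_trans (le_of_eq (Nat.card_congr (Equiv.subtypeEquivRight fun z => ?_)))
      (card_roots_le (p := p) (a := a) hb (-1))
    rw [AddMonoidHom.mem_ker, hDf]
    rw [neg_one_mul, ← sub_eq_add_neg]
  have hrg : ∀ f : GaloisField p a →+ GaloisField p a, Nat.card f.range * Nat.card f.ker = p ^ b * p ^ b :=
    fun f => by rw [← AddSubgroup.index_ker, AddSubgroup.index_mul_card, hcardK]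
  have hpb : 0 < p ^ b := pow_pos (Fact.out : p.Prime).pos b
  have hTrrange : Tr.range = Df.ker := by
    refine AddSubgroup.eq_of_le_of_card_ge ?_ ?_
    · rintro _ ⟨z, rfl⟩
      rw [AddMonoidHom.mem_ker, hDf, hTr, map_add, hcc]
      ring
    · by_contra hlt
      push Not at hlt
      have h1 := hrg Tr
      have h2 : Nat.card Tr.range * Nat.card Tr.ker ≤ Nat.card Tr.range * p ^ b :=
        Nat.mul_le_mul_left _ hkerTr
      rw [h1] at h2
      exact absurd (Nat.le_of_mul_le_mul_right h2 hpb) (not_le.2 (hlt.trans_le hkerDf))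
  have hDfrange : Df.range = Tr.ker := by
    refine AddSubgroup.eq_of_le_of_card_ge ?_ ?_
    · rintro _ ⟨z, rfl⟩
      rw [AddMonoidHom.mem_ker, hTr, hDf, map_sub, hcc]
      ring
    · by_contra hlt
      push Not at hlt
      have h1 := hrg Df
      have h2 : Nat.card Df.range * Nat.card Df.ker ≤ Nat.card Df.range * p ^ b :=
        Nat.mul_le_mul_left _ hkerDf
      rw [h1] at h2
      exact absurd (Nat.le_of_mul_le_mul_right h2 hpb) (not_le.2 (hlt.trans_le hkerTr))
  have hsec : ∀ x : GaloisField p a, ∃ y, y + c y = -(x * c x) := by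
    intro x
    have : -(x * c x) ∈ Tr.range := by
      rw [hTrrange, AddMonoidHom.mem_ker, hDf, map_neg, map_mul, hcc]
      ring
    obtain ⟨y, hy⟩ := this
    exact ⟨y, hy⟩
  choose sec hsec using hsec
  haveI : Finite (Herm p a b) := Subtype.finite
  let e : Herm p a b ≃ GaloisField p a × Tr.ker :=
    { toFun := fun u => (u.1.1, ⟨u.1.2 - sec u.1.1, by
        have hu : u.1.2 + c u.1.2 = -(u.1.1 * c u.1.1) := u.2
        rw [AddMonoidHom.mem_ker, hTr, map_sub]
        linear_combination hu - hsec u.1.1⟩)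
      invFun := fun w => ⟨(w.1, sec w.1 + (w.2 : GaloisField p a)), by
        have hw : (w.2 : GaloisField p a) + c (w.2 : GaloisField p a) = 0 := w.2.2
        show _ + c _ = -(_ * c _)
        simp only [map_add]
        linear_combination hw + hsec w.1⟩
      left_inv := fun u => Subtype.ext (Prod.ext rfl (by simp))
      right_inv := fun w => Prod.ext rfl (Subtype.ext (by simp)) }
  have hcard : Nat.card (Herm p a b) = p ^ (3 * b) := by
    have hk : Nat.card Tr.ker = p ^ b := by
      refine le_antisymm hkerTr ?_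
      have h1 := hrg Tr
      rw [hTrrange] at h1
      have h2 : Nat.card Df.ker * Nat.card Tr.ker ≤ p ^ b * Nat.card Tr.ker :=
        Nat.mul_le_mul_right _ hkerDf
      rw [h1] at h2
      exact Nat.le_of_mul_le_mul_left h2 hpb
    rw [Nat.card_congr e, Nat.card_prod, hk, hcardK]
    ring
  have hαk : ∀ (k : ℕ) (u : Herm p a b), ((α ^ k) u).1 = (l ^ k * u.1.1, u.1.2) := by
    intro k
    induction k with
    | zero => intro u; simp
    | succ k ih =>
      intro u
      rw [pow_succ', MulAut.mul_apply, hα, ih, ← mul_assoc, ← pow_succ']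
  refine ⟨Herm p a b, inferInstance, inferInstance, α, ⟨IsPGroup.of_card hcard, ?_, ?_, ?_⟩, hcard⟩
  · refine MulEquiv.ext fun u => Subtype.ext ?_
    rw [hαk, ← hl, pow_orderOf_eq_one, one_mul]
    rfl
  · intro he
    have h1 := hα ⟨(1, sec 1), hsec 1⟩
    rw [he, MulAut.one_apply] at h1
    have := congrArg Prod.fst h1
    simp only [mul_one] at this
    exact ne_one_of_orderOf hl this.symm
  · intro H hH hHinv h hh
    let fst : Herm p a b →* Multiplicative (GaloisField p a) :=
      MonoidHom.mk' (fun u => Multiplicative.ofAdd u.1.1) fun u v => by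
        rw [← ofAdd_add, hmul]
    by_cases hbot : Subgroup.toAddSubgroup' (H.map fst) = ⊥
    · have h0 : h.1.1 = 0 := by
        have : h.1.1 ∈ Subgroup.toAddSubgroup' (H.map fst) := ⟨h, hh, rfl⟩
        rwa [hbot, AddSubgroup.mem_bot] at this
      exact Subtype.ext (by rw [hα, h0, mul_zero, ← h0])
    exfalso
    have htop := eq_top_of_invariant ha0 ha hl (W := Subgroup.toAddSubgroup' (H.map fst))
      (by rintro w ⟨u, hu, rfl⟩; exact ⟨α u, hHinv u hu, rfl⟩) hbot
    have hlift : ∀ z : GaloisField p a, ∃ u ∈ H, u.1.1 = z := fun z => by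
      obtain ⟨u, hu, hu'⟩ : z ∈ Subgroup.toAddSubgroup' (H.map fst) := htop ▸ AddSubgroup.mem_top z
      exact ⟨u, hu, congrArg Multiplicative.toAdd hu'⟩
    obtain ⟨g, hg, hg1⟩ := hlift 1
    apply hH
    refine (Subgroup.eq_top_iff' H).2 fun u => ?_
    obtain ⟨v, hv, hv1⟩ := hlift u.1.1
    have hd : u.1.2 - v.1.2 ∈ Df.range := by
      rw [hDfrange, AddMonoidHom.mem_ker, hTr, map_sub]
      have hu2 : u.1.2 + c u.1.2 = -(u.1.1 * c u.1.1) := u.2
      have hv2 : v.1.2 + c v.1.2 = -(v.1.1 * c v.1.1) := v.2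
      rw [hv1] at hv2
      linear_combination hu2 - hv2
    obtain ⟨z, hz⟩ := hd
    obtain ⟨w, hw, hw1⟩ := hlift z
    let t : Herm p a b := ⟨(0, u.1.2 - v.1.2), by
      show _ + c _ = -(_ * c _)
      rw [← hz, hDf, map_sub, hcc]
      ring⟩
    have ht : t * (w * g) = g * w := by
      refine Subtype.ext ?_
      simp only [hmul, t, hg1, hw1, map_zero, map_one, Prod.mk.injEq]
      refine ⟨by ring, ?_⟩
      rw [← hz, hDf]
      ring
    have htH : t ∈ H := by
      rw [eq_mul_inv_of_mul_eq ht]
      exact H.mul_mem (H.mul_mem hg hw) (H.inv_mem (H.mul_mem hw hg))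
    have hu' : u = t * v := by
      refine Subtype.ext ?_
      simp only [hmul, t, hv1, map_zero]
      exact Prod.ext (by simp) (by simp)
    rw [hu']
    exact H.mul_mem htH hv

end Cfsg.Agent.GenA.Redei
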