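import Cfsg.Agent.GenA.Redei.Model
import Mathlib.GroupTheory.Abelianization.Finite
import Mathlib.GroupTheory.Solvable
import Mathlib.GroupTheory.Nilpotent
import Mathlib.GroupTheory.Sylow
import Mathlib.Algebra.CharP.Lemmas
import Mathlib.Algebra.Ring.Subring.Basic

/-!
# The structure of an `IsSPair`: coordinates in the field with `p ^ a` elements and the order bound
-/

set_option autoImplicit false

namespace Cfsg.Agent.GenA.Redei

open scoped commutatorElement

variable {p q a : ℕ} [Fact p.Prime] [Fact q.Prime] {R : Type*} [Group R] [Finite R] {α : MulAut R}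

theorem pow_apply_mem {H : Subgroup R} {β : MulAut R} (hinv : ∀ x ∈ H, β x ∈ H) :
    ∀ (j : ℕ), ∀ x ∈ H, (β ^ j) x ∈ H := by
  intro j
  induction j with
  | zero => intro x hx; simpa using hx
  | succ j ih => intro x hx; rw [pow_succ']; exact hinv _ (ih x hx)

theorem pow_apply_fixed {β : MulAut R} {x : R} (hx : β x = x) : ∀ j : ℕ, (β ^ j) x = x := by
  intro j
  induction j with
  | zero => simp
  | succ j ih => rw [pow_succ', MulAut.mul_apply, ih, hx]

theorem IsSPair.pow (h : IsSPair p q α) {i : ℕ} (hi : ¬ q ∣ i) : IsSPair p q (α ^ i) := by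
  obtain ⟨j, hj⟩ : ∃ j : ℕ, (α ^ i) ^ j = α := by
    have hco : i.Coprime (orderOf α) := by
      rw [orderOf_eq_prime h.pow_eq h.ne_one]
      exact ((Fact.out : q.Prime).coprime_iff_not_dvd.2 hi).symm
    exact exists_pow_eq_self_of_coprime hco
  refine ⟨h.isP, by rw [← pow_mul, mul_comm, pow_mul, h.pow_eq, one_pow],
    fun e => h.ne_one (by rw [← hj, e, one_pow]), fun H hH hinv x hx => ?_⟩
  have hinvα : ∀ y ∈ H, α y ∈ H := fun y hy => by
    have := pow_apply_mem hinv j y hy
    rwa [hj] at this
  exact pow_apply_fixed (h.fixed H hH hinvα x hx) i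

theorem IsSPair.closure_eq_top (hpq : p ≠ q) (h : IsSPair p q α) :
    Subgroup.closure (Set.range fun x : R => x⁻¹ * α x) = ⊤ := by
  by_contra hne
  apply h.ne_one
  have hinv : ∀ y ∈ Subgroup.closure (Set.range fun x : R => x⁻¹ * α x),
      α y ∈ Subgroup.closure (Set.range fun x : R => x⁻¹ * α x) := by
    intro y hy
    refine Subgroup.closure_induction (p := fun y _ => α y ∈ _) ?_ (by simp) ?_ ?_ hy
    · rintro _ ⟨x, rfl⟩
      exact Subgroup.subset_closure ⟨α x, by simp⟩
    · intro u v _ _ hu hv; rw [map_mul]; exact mul_mem hu hv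
    · intro u _ hu; rw [map_inv]; exact inv_mem hu
  refine MulEquiv.ext fun x => ?_
  set d := x⁻¹ * α x with hd
  have hdfix : α d = d := h.fixed _ hne hinv d (Subgroup.subset_closure ⟨x, rfl⟩)
  have hit : ∀ k : ℕ, (α ^ k) x = x * d ^ k := by
    intro k
    induction k with
    | zero => simp
    | succ k ih =>
      rw [pow_succ', MulAut.mul_apply, ih, map_mul, map_pow, hdfix, hd, ← hd,
        show α x = x * d by rw [hd, mul_inv_cancel_left], mul_assoc, ← pow_succ']
  have hdq : d ^ q = 1 := by
    have := hit q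
    rw [h.pow_eq, MulAut.one_apply] at this
    simpa using this.symm
  obtain ⟨k, hk⟩ := IsPGroup.iff_orderOf.1 h.isP d
  have hd1 : d = 1 := by
    rw [← orderOf_eq_one_iff]
    exact Nat.eq_one_of_dvd_coprimes
      (Nat.Coprime.pow_left k ((Nat.coprime_primes Fact.out Fact.out).2 hpq))
      hk.dvd (orderOf_dvd_of_pow_eq_one hdq)
  rw [hd] at hd1
  exact (inv_mul_eq_one.1 hd1).symm

/-- A proper invariant normal subgroup is central. -/
theorem IsSPair.le_center (hpq : p ≠ q) (h : IsSPair p q α) {H : Subgroup R} [H.Normal]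
    (hH : H ≠ ⊤) (hinv : ∀ x ∈ H, α x ∈ H) : H ≤ Subgroup.center R := by
  have hf := h.fixed H hH hinv
  have htop : Subgroup.closure (Set.range fun x : R => x⁻¹ * α x) ≤ Subgroup.centralizer (H : Set R) := by
    rw [Subgroup.closure_le]
    rintro _ ⟨x, rfl⟩
    rw [SetLike.mem_coe, Subgroup.mem_centralizer_iff]
    intro y hy
    have h1 := hf _ ((inferInstance : H.Normal).conj_mem y hy x)
    rw [map_mul, map_mul, map_inv, hf y hy] at h1
    calc y * (x⁻¹ * α x) = x⁻¹ * (x * y * x⁻¹) * α x := by group
      _ = x⁻¹ * (α x * y * (α x)⁻¹) * α x := by rw [h1]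
      _ = x⁻¹ * α x * y := by group
  rw [h.closure_eq_top hpq] at htop
  exact fun y hy => Subgroup.mem_center_iff.2 fun g =>
    ((Subgroup.mem_centralizer_iff.1 (htop (Subgroup.mem_top g))) y hy).symm

theorem IsSPair.commutator_ne_top (h : IsSPair p q α) : commutator R ≠ ⊤ := by
  haveI : Group.IsNilpotent R := h.isP.isNilpotent
  haveI : Nontrivial R := by
    by_contra hn
    rw [not_nontrivial_iff_subsingleton] at hn
    exact h.ne_one (MulEquiv.ext fun x => Subsingleton.elim _ _)
  exact (IsSolvable.commutator_lt_top_of_nontrivial (G := R)).ne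

theorem IsSPair.commutator_inv (α : MulAut R) : ∀ x ∈ commutator R, α x ∈ commutator R :=
  fun x hx => by
    have := Subgroup.characteristic_iff_map_eq.1 (inferInstance : (commutator R).Characteristic) α
    rw [← this]
    exact ⟨x, hx, rfl⟩

theorem IsSPair.commutator_fixed (h : IsSPair p q α) : ∀ x ∈ commutator R, α x = x :=
  h.fixed _ h.commutator_ne_top (IsSPair.commutator_inv α)

theorem IsSPair.commutator_central (hpq : p ≠ q) (h : IsSPair p q α) :
    commutator R ≤ Subgroup.center R :=
  h.le_center hpq h.commutator_ne_top (IsSPair.commutator_inv α)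

/-- The coordinate map: a surjection onto the field with kernel the derived subgroup, turning a
power of `α` into multiplication by `l`. -/
theorem IsSPair.exists_coord (hpq : p ≠ q) (h : IsSPair p q α) (ha0 : 0 < a)
    (ha : a = orderOf (p : ZMod q)) {l : GaloisField p a} (hl : orderOf l = q) :
    ∃ i : ℕ, ¬ q ∣ i ∧ ∃ θ : R →* Multiplicative (GaloisField p a), Function.Surjective θ ∧
      θ.ker = commutator R ∧ ∀ x, (θ ((α ^ i) x)).toAdd = l * (θ x).toAdd := by
  classical
  set π : R →* Abelianization R := Abelianization.of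
  have hπker : π.ker = commutator R := Abelianization.ker_of R
  have hπsurj : Function.Surjective π := QuotientGroup.mk_surjective
  set ψ : Abelianization R ≃* Abelianization R := MulEquiv.abelianizationCongr α
  have hψ : ∀ x, ψ (π x) = π (α x) := fun x => abelianizationCongr_of α x
  have hψk : ∀ (k : ℕ) x, ((ψ : MulAut (Abelianization R)) ^ k) (π x) = π ((α ^ k) x) := by
    intro k
    induction k with
    | zero => intro x; simp
    | succ k ih =>
      intro x
      rw [pow_succ', MulAut.mul_apply, ih, pow_succ', MulAut.mul_apply]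
      exact hψ _
  -- no non-trivial fixed points
  let δ : Abelianization R →* Abelianization R :=
    (MonoidHom.id _)⁻¹ * ψ.toMonoidHom
  have hδ : ∀ v, δ v = v⁻¹ * ψ v := fun _ => rfl
  have hδsurj : Function.Surjective δ := by
    intro v
    obtain ⟨x, rfl⟩ := hπsurj v
    have hx : x ∈ Subgroup.closure (Set.range fun x : R => x⁻¹ * α x) :=
      h.closure_eq_top hpq ▸ Subgroup.mem_top x
    refine Subgroup.closure_induction (p := fun y _ => ∃ v, δ v = π y) ?_ ⟨1, by simp⟩ ?_ ?_ hx
    · rintro _ ⟨y, rfl⟩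
      exact ⟨π y, by rw [hδ, hψ, map_mul, map_inv]⟩
    · rintro y z _ _ ⟨v, hv⟩ ⟨w, hw⟩
      exact ⟨v * w, by rw [map_mul, map_mul, hv, hw]⟩
    · rintro y _ ⟨v, hv⟩
      exact ⟨v⁻¹, by rw [map_inv, map_inv, hv]⟩
  have hfpf : ∀ v, ψ v = v → v = 1 := fun v hv =>
    (Finite.injective_iff_surjective.2 hδsurj) (by rw [hδ, hv, inv_mul_cancel, map_one])
  have hirr : ∀ H : Subgroup (Abelianization R), (∀ v ∈ H, ψ v ∈ H) → H ≠ ⊤ → H = ⊥ := by
    intro H hinv hne
    refine (Subgroup.eq_bot_iff_forall _).2 fun v hv => ?_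
    obtain ⟨x, rfl⟩ := hπsurj v
    refine hfpf _ ?_
    rw [hψ, h.fixed (H.comap π) (fun e => hne ?_) (fun y hy => ?_) x hv]
    · rw [← Subgroup.map_comap_eq_self_of_surjective hπsurj H, e,
        Subgroup.map_top_of_surjective _ hπsurj]
    · rw [Subgroup.mem_comap, ← hψ]; exact hinv _ hy
  have hAp : IsPGroup p (Abelianization R) := h.isP.of_surjective π hπsurj
  obtain ⟨v0, hv0⟩ : ∃ v : Abelianization R, v ≠ 1 := by
    by_contra hall
    push Not at hall
    exact h.commutator_ne_top (eq_top_iff.2 fun x _ => by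
      rw [← hπker]; exact MonoidHom.mem_ker.2 (hall _))
  haveI : Nontrivial (Abelianization R) := ⟨⟨v0, 1, hv0⟩⟩
  have hexp : ∀ v : Abelianization R, v ^ p = 1 := by
    have hbot : (powMonoidHom p : Abelianization R →* Abelianization R).range = ⊥ := by
      refine hirr _ (by rintro _ ⟨w, rfl⟩; exact ⟨ψ w, (map_pow ψ w p).symm⟩) fun e => ?_
      obtain ⟨n, hn0, hn⟩ := (IsPGroup.nontrivial_iff_card hAp).1 inferInstance
      obtain ⟨w, hw⟩ := exists_prime_orderOf_dvd_card' p (hn ▸ dvd_pow_self p (by omega))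
      have hinj := Finite.injective_iff_surjective.2 (MonoidHom.range_eq_top.1 e)
      have : w = 1 := hinj (by simp [← hw, pow_orderOf_eq_one])
      rw [this, orderOf_one] at hw
      exact (Fact.out : p.Prime).ne_one hw.symm
    intro v
    exact Subgroup.mem_bot.1 (hbot ▸ ⟨v, rfl⟩ : v ^ p ∈ (⊥ : Subgroup (Abelianization R)))
  -- the ring generated by `ψ`
  let T : AddMonoid.End (Additive (Abelianization R)) := ψ.toMonoidHom.toAdditive
  let S : Subring (AddMonoid.End (Additive (Abelianization R))) := Subring.closure {T}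
  have hcomm : ∀ x ∈ S, ∀ y ∈ S, x * y = y * x := by
    have h1 : S ≤ Subring.centralizer {T} := Subring.closure_le.2 (by
      rintro _ rfl
      rw [SetLike.mem_coe, Subring.mem_centralizer_iff]
      rintro _ rfl
      rfl)
    have h2 : S ≤ Subring.centralizer (S : Set _) := Subring.closure_le.2 (by
      rintro _ rfl
      rw [SetLike.mem_coe, Subring.mem_centralizer_iff]
      exact fun g hg => (Subring.mem_centralizer_iff.1 (h1 hg) T rfl).symm)
    exact fun x hx y hy => (Subring.mem_centralizer_iff.1 (h2 hy) x hx)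
  letI : CommRing S :=
    { (inferInstance : Ring S) with mul_comm := fun x y => Subtype.ext (hcomm x x.2 y y.2) }
  have hTS : T ∈ S := Subring.subset_closure rfl
  let TS : S := ⟨T, hTS⟩
  let ev : S →+ Additive (Abelianization R) :=
    AddMonoidHom.mk' (fun z => (z : AddMonoid.End (Additive (Abelianization R))) (Additive.ofMul v0))
      fun z w => rfl
  have hker : ∀ z : S, (∃ w, w ≠ 0 ∧ (z : AddMonoid.End (Additive (Abelianization R))) w = 0) → z = 0 := by
    rintro z ⟨w, hw0, hw⟩
    by_contra hz
    let Kz : Subgroup (Abelianization R) := AddSubgroup.toSubgroup'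
      (z : AddMonoid.End (Additive (Abelianization R))).ker
    have hKz : Kz = ⊥ := by
      refine hirr Kz (fun v hv => ?_) fun e => hz (Subtype.ext (AddMonoidHom.ext fun u => ?_))
      · show (z : AddMonoid.End (Additive (Abelianization R))) (T (Additive.ofMul v)) = 0
        have := congrArg (fun f : AddMonoid.End (Additive (Abelianization R)) => f (Additive.ofMul v))
          (hcomm _ z.2 _ hTS)
        simp only [AddMonoid.End.coe_mul, Function.comp_apply] at this
        rw [this, show (z : AddMonoid.End (Additive (Abelianization R))) (Additive.ofMul v) = 0 from hv,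
          map_zero]
      · exact (e ▸ Subgroup.mem_top u.toMul : u.toMul ∈ Kz)
    have : w.toMul ∈ Kz := hw
    rw [hKz, Subgroup.mem_bot] at this
    exact hw0 (Additive.toMul.injective this)
  haveI : Finite (AddMonoid.End (Additive (Abelianization R))) :=
    Finite.of_injective _ DFunLike.coe_injective
  haveI : Nontrivial S := ⟨⟨0, 1, fun e => hv0 (Additive.ofMul.injective
    (congrArg (fun z : S => (z : AddMonoid.End (Additive (Abelianization R))) (Additive.ofMul v0)) e).symm)⟩⟩
  haveI : NoZeroDivisors S := ⟨fun {z w} hzw => by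
    by_cases hw : w = 0
    · exact Or.inr hw
    refine Or.inl (hker z ⟨ev w, fun e => hw (hker w ⟨_, fun e' => hv0 ?_, e⟩), ?_⟩)
    · exact Additive.ofMul.injective e'
    · exact congrArg (fun z : S => (z : AddMonoid.End (Additive (Abelianization R))) (Additive.ofMul v0)) hzw⟩
  haveI : IsDomain S := NoZeroDivisors.to_isDomain _
  have hevinj : Function.Injective ev := (injective_iff_map_eq_zero ev).2 fun z hz =>
    hker z ⟨_, fun e => hv0 (Additive.ofMul.injective e), hz⟩
  have hevsurj : Function.Surjective ev := by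
    have hne : AddSubgroup.toSubgroup' ev.range ≠ ⊥ := fun e => hv0 (by
      have : v0 ∈ AddSubgroup.toSubgroup' ev.range := ⟨1, rfl⟩
      rwa [e, Subgroup.mem_bot] at this)
    have htop : AddSubgroup.toSubgroup' ev.range = ⊤ := by
      by_contra hnt
      exact hne (hirr _ (by rintro v ⟨z, hz⟩; exact ⟨TS * z, by
        show T ((z : AddMonoid.End (Additive (Abelianization R))) (Additive.ofMul v0)) = _
        rw [show (z : AddMonoid.End (Additive (Abelianization R))) (Additive.ofMul v0) = _ from hz]
        rfl⟩) hnt)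
    intro w
    exact (htop ▸ Subgroup.mem_top w.toMul : w.toMul ∈ AddSubgroup.toSubgroup' ev.range)
  haveI : Finite S := inferInstance
  haveI : Fintype S := Fintype.ofFinite _
  letI : Field S := Fintype.fieldOfDomain S
  haveI : CharP S p := by
    refine (CharP.charP_iff_prime_eq_zero (Fact.out : p.Prime)).2 ?_
    apply hevinj
    rw [map_zero, show ((p : S)) = p • (1 : S) by simp, map_nsmul]
    exact Additive.toMul.injective (hexp _)
  have hTpow : ∀ k : ℕ, ev (TS ^ k) = Additive.ofMul (((ψ : MulAut (Abelianization R)) ^ k) v0) := by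
    intro k
    induction k with
    | zero => rfl
    | succ k ih =>
      rw [pow_succ', pow_succ', MulAut.mul_apply]
      show T (ev (TS ^ k)) = _
      rw [ih]; rfl
  have hTq : TS ^ q = 1 := hevinj (by
    obtain ⟨x, hx⟩ := hπsurj v0
    rw [hTpow, ← hx, hψk, h.pow_eq, MulAut.one_apply, hx]; rfl)
  have hT1 : TS ≠ 1 := fun e => hv0 (hfpf v0 (by
    have := hTpow 1
    rw [pow_one, e, pow_one] at this
    exact (Additive.ofMul.injective this).symm))
  obtain ⟨d, hd⟩ := IsPGroup.iff_card.1 hAp
  have hcardS : Fintype.card S = p ^ d := by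
    rw [← Nat.card_eq_fintype_card, Nat.card_eq_of_bijective ev ⟨hevinj, hevsurj⟩,
      Nat.card_congr Additive.toMul, hd]
  have hd1 : 0 < d := by
    by_contra hd1
    have : Fintype.card S = 1 := by rw [hcardS, Nat.eq_zero_of_not_pos hd1, pow_zero]
    exact (Fintype.one_lt_card (α := S)).ne' this
  have hTord : orderOf TS = q := orderOf_eq_prime hTq hT1
  have had : a ∣ d := by
    refine (dvd_pow_sub_one ha d).1 ?_
    have hT0 : TS ≠ 0 := fun e => by
      rw [e, zero_pow (Fact.out : q.Prime).ne_zero] at hTq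
      exact zero_ne_one hTq
    rw [← hTord, ← hcardS]
    exact orderOf_dvd_of_pow_eq_one (FiniteField.pow_card_sub_one_eq_one _ hT0)
  have hfrob : ∀ z : S, z ^ p ^ a = z := by
    intro z
    have hle : S ≤ (RingHom.eqLocus (iterateFrobenius S p a) (RingHom.id S)).map S.subtype := by
      refine Subring.closure_le.2 ?_
      rintro _ rfl
      refine ⟨TS, ?_, rfl⟩
      show iterateFrobenius S p a TS = TS
      rw [iterateFrobenius_def]
      have h1 : (p ^ a) % q = 1 := by
        have h2 : ((p ^ a : ℕ) : ZMod q) = ((1 : ℕ) : ZMod q) := by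
          rw [Nat.cast_pow, Nat.cast_one, ha, pow_orderOf_eq_one]
        rw [ZMod.natCast_eq_natCast_iff'] at h2
        rw [h2, Nat.mod_eq_of_lt (Fact.out : q.Prime).one_lt]
      rw [pow_eq_pow_mod _ hTq, h1, pow_one]
    obtain ⟨w, hw, hwz⟩ := hle z.2
    rw [← (Subtype.ext hwz : w = z)]
    rw [← iterateFrobenius_def]
    exact hw
  have hda : d ≤ a := by
    by_contra hlt
    push Not at hlt
    set f : Polynomial S := Polynomial.X ^ p ^ a - Polynomial.X with hf
    have h1 : 1 < p ^ a := Nat.one_lt_pow (by omega) (Fact.out : p.Prime).one_lt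
    have hdeg : f.natDegree = p ^ a := FiniteField.X_pow_card_sub_X_natDegree_eq S h1
    have hne : f ≠ 0 := Polynomial.ne_zero_of_natDegree_gt (n := 0) (by omega)
    have h2 := Finset.card_le_card (s := (Finset.univ : Finset S)) (t := f.roots.toFinset) fun z _ => by
      rw [Multiset.mem_toFinset, Polynomial.mem_roots hne, Polynomial.IsRoot.def]
      simp [hf, hfrob z]
    have h3 := h2.trans ((Multiset.toFinset_card_le _).trans (Polynomial.card_roots' f))
    rw [Finset.card_univ, hcardS, hdeg] at h3
    exact absurd h3 (not_le.2 (Nat.pow_lt_pow_right (Fact.out : p.Prime).one_lt hlt))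
  have hde : d = a := le_antisymm hda (Nat.le_of_dvd hd1 had)
  haveI : Fintype (GaloisField p a) := Fintype.ofFinite _
  let e : S ≃+* GaloisField p a := FiniteField.ringEquivOfCardEq (by
    rw [hcardS, ← Nat.card_eq_fintype_card, GaloisField.card p a (by omega), hde])
  -- the power sending the root to `l`
  have hprim : IsPrimitiveRoot l q := hl ▸ IsPrimitiveRoot.orderOf l
  obtain ⟨j, hjq, hj⟩ := hprim.eq_pow_of_pow_eq_one (show e TS ^ q = 1 by rw [← map_pow, hTq, map_one])
  have hj0 : (j : ZMod q) ≠ 0 := fun e0 => hT1 (e.injective (by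
    rw [← hj, map_one, Nat.eq_zero_of_dvd_of_lt ((ZMod.natCast_eq_zero_iff _ _).1 e0) hjq, pow_zero]))
  set i := ((j : ZMod q)⁻¹).val with hi
  have hiq : ¬ q ∣ i := fun hd => by
    rw [← ZMod.natCast_eq_zero_iff, hi, ZMod.natCast_zmod_val, inv_eq_zero] at hd
    exact hj0 hd
  have hTi : e (TS ^ i) = l := by
    have h1 : (j * i) % q = 1 := by
      have h2 : ((j * i : ℕ) : ZMod q) = ((1 : ℕ) : ZMod q) := by
        rw [Nat.cast_mul, hi, ZMod.natCast_zmod_val, mul_inv_cancel₀ hj0, Nat.cast_one]
      rw [ZMod.natCast_eq_natCast_iff'] at h2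
      rw [h2, Nat.mod_eq_of_lt (Fact.out : q.Prime).one_lt]
    rw [map_pow, ← hj, ← pow_mul, pow_eq_pow_mod _ hprim.pow_eq_one, h1, pow_one]
  let evE : S ≃+ Additive (Abelianization R) := AddEquiv.ofBijective ev ⟨hevinj, hevsurj⟩
  let θ : R →* Multiplicative (GaloisField p a) :=
    (AddEquiv.toMultiplicativeRight (evE.symm.trans e.toAddEquiv) :
      Abelianization R ≃* Multiplicative (GaloisField p a)).toMonoidHom.comp π
  have hθ : ∀ x, (θ x).toAdd = e (evE.symm (Additive.ofMul (π x))) := fun _ => rfl
  refine ⟨i, hiq, θ, ?_, ?_, fun x => ?_⟩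
  · exact ((AddEquiv.toMultiplicativeRight (evE.symm.trans e.toAddEquiv)).surjective).comp hπsurj
  · rw [← hπker]
    ext x
    simp only [θ, MonoidHom.mem_ker, MonoidHom.comp_apply, MulEquiv.coe_toMonoidHom]
    exact map_eq_one_iff _ (MulEquiv.injective _)
  · rw [hθ, hθ, ← hTi, ← map_mul]
    congr 1
    apply evE.injective
    rw [AddEquiv.apply_symm_apply]
    show _ = ev (TS ^ i * evE.symm (Additive.ofMul (π x)))
    rw [← hψk]
    have hmul : ∀ (k : ℕ) (z : S), ev (TS ^ k * z) =
        Additive.ofMul (((ψ : MulAut (Abelianization R)) ^ k) (ev z).toMul) := by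
      intro k
      induction k with
      | zero => intro z; simp
      | succ k ih =>
        intro z
        rw [pow_succ', mul_assoc, pow_succ', MulAut.mul_apply]
        show T (ev (TS ^ k * z)) = _
        rw [ih]; rfl
    rw [hmul, show ev (evE.symm (Additive.ofMul (π x))) = Additive.ofMul (π x) from
      evE.apply_symm_apply _]
    rfl

end Cfsg.Agent.GenA.Redei
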