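import Cfsg.Agent.GenA.Redei.Bound
import Cfsg.Agent.S0132
import Cfsg.Agent.SolvStruct.Schmidt
import Cfsg.Agent.Lib.Transfer.NormalPComplement
import Mathlib.GroupTheory.SemidirectProduct

/-!
# The universal minimal non-`p`-nilpotent group
-/

set_option autoImplicit false

namespace Cfsg.Agent.GenA.Redei

open scoped Pointwise
open Cfsg.Agent.Transfer.NormalPComplement

variable {p q a : ℕ} [Fact p.Prime] [Fact q.Prime]

/-- Any surjection of an `IsSPair` onto the field has the derived subgroup as its kernel. -/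
theorem IsSPair.ker_eq_commutator {R : Type*} [Group R] [Finite R] {α : MulAut R} (hpq : p ≠ q)
    (h : IsSPair p q α) (ha0 : 0 < a) (ha : a = orderOf (p : ZMod q))
    (θ : R →* Multiplicative (GaloisField p a)) (hθ : Function.Surjective θ) :
    θ.ker = commutator R := by
  obtain ⟨l, hl⟩ := exists_root (p := p) ha0 ha
  obtain ⟨i, -, θ', hθ', hker', -⟩ := h.exists_coord hpq ha0 ha hl
  have hle : commutator R ≤ θ.ker := Abelianization.commutator_subset_ker θ
  refine (Subgroup.eq_of_le_of_card_ge hle (le_of_eq ?_)).symm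
  have h1 := Subgroup.card_eq_card_quotient_mul_card_subgroup θ.ker
  have h2 := Subgroup.card_eq_card_quotient_mul_card_subgroup θ'.ker
  rw [Nat.card_congr (QuotientGroup.quotientKerEquivOfSurjective θ hθ).toEquiv] at h1
  rw [Nat.card_congr (QuotientGroup.quotientKerEquivOfSurjective θ' hθ').toEquiv, hker'] at h2
  exact Nat.eq_of_mul_eq_mul_left Nat.card_pos (h1.symm.trans h2)

/-- The maximal `IsSPair` covers every other one. -/
theorem exists_cover {R0 R : Type*} [Group R0] [Finite R0] [Group R] [Finite R]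
    {α0 : MulAut R0} {α : MulAut R} (hpq : p ≠ q) (ha0 : 0 < a) (ha : a = orderOf (p : ZMod q))
    {l : GaloisField p a} (hl : orderOf l = q) (h0 : IsSPair p q α0) (h : IsSPair p q α)
    (θ0 : R0 →* Multiplicative (GaloisField p a)) (hs0 : Function.Surjective θ0)
    (hθ0 : ∀ x, (θ0 (α0 x)).toAdd = l * (θ0 x).toAdd)
    (θ : R →* Multiplicative (GaloisField p a)) (hs : Function.Surjective θ)
    (hθ : ∀ x, (θ (α x)).toAdd = l * (θ x).toAdd)
    (hcard : p ^ (if a % 2 = 1 then a else 3 * a / 2) ≤ Nat.card R0) :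
    ∃ φ : R0 →* R, Function.Surjective φ ∧ (∀ x, φ (α0 x) = α (φ x)) ∧
      ∀ x ∈ φ.ker, x ∈ Subgroup.center R0 ∧ α0 x = x := by
  classical
  have hl1 := ne_one_of_orderOf hl
  have hk0 := h0.ker_eq_commutator hpq ha0 ha θ0 hs0
  have hk := h.ker_eq_commutator hpq ha0 ha θ hs
  let β : MulAut (R0 × R) := MulEquiv.prodCongr α0 α
  have hβ : ∀ z, β z = (α0 z.1, α z.2) := fun _ => rfl
  have hβk : ∀ (k : ℕ) z, (β ^ k) z = ((α0 ^ k) z.1, (α ^ k) z.2) := by
    intro k
    induction k with
    | zero => intro z; simp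
    | succ k ih => intro z; rw [pow_succ', MulAut.mul_apply, ih, hβ, pow_succ', pow_succ']; rfl
  have hβq : β ^ q = 1 := MulEquiv.ext fun z => by
    rw [hβk, h0.pow_eq, h.pow_eq]; rfl
  let D : Subgroup (R0 × R) :=
    (θ0.comp (MonoidHom.fst R0 R)).eqLocus (θ.comp (MonoidHom.snd R0 R))
  let good : Subgroup (R0 × R) → Prop := fun H => H ≤ D ∧ (∀ z ∈ H, β z ∈ H) ∧
    H.map (MonoidHom.fst R0 R) = ⊤ ∧ H.map (MonoidHom.snd R0 R) = ⊤
  have hD : good D := by
    refine ⟨le_rfl, fun z hz => ?_, ?_, ?_⟩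
    · show θ0 (α0 z.1) = θ (α z.2)
      apply Multiplicative.toAdd.injective
      rw [hθ0, hθ, show θ0 z.1 = θ z.2 from hz]
    · refine (Subgroup.eq_top_iff' _).2 fun x => ?_
      obtain ⟨y, hy⟩ := hs (θ0 x)
      exact ⟨(x, y), hy.symm, rfl⟩
    · refine (Subgroup.eq_top_iff' _).2 fun y => ?_
      obtain ⟨x, hx⟩ := hs0 (θ y)
      exact ⟨(x, y), hx, rfl⟩
  obtain ⟨P2, ⟨hPD, hPinv, hP1, hP2⟩, hmin⟩ :
      ∃ P2, good P2 ∧ ∀ H, good H → H ≤ P2 → H = P2 := by
    obtain ⟨P2, hP2⟩ := (Set.toFinite {H | good H}).exists_minimal ⟨D, hD⟩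
    exact ⟨P2, hP2.prop, fun H hH hle => le_antisymm hle (hP2.le_of_le hH hle)⟩
  have hPk : ∀ (k : ℕ), ∀ z ∈ P2, (β ^ k) z ∈ P2 := fun k => pow_apply_mem hPinv k
  have hqq : (β ^ (q - 1)) * β = 1 := by
    rw [← pow_succ, Nat.sub_add_cancel (Fact.out : q.Prime).one_le, hβq]
  let β2 : MulAut P2 :=
    { toFun := fun z => ⟨β z, hPinv _ z.2⟩
      invFun := fun z => ⟨(β ^ (q - 1)) z, hPk _ _ z.2⟩
      left_inv := fun z => Subtype.ext (by
        show ((β ^ (q - 1)) * β) (z : R0 × R) = _
        rw [hqq]; rfl)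
      right_inv := fun z => Subtype.ext (by
        show (β * (β ^ (q - 1))) (z : R0 × R) = _
        rw [← pow_succ', Nat.sub_add_cancel (Fact.out : q.Prime).one_le, hβq]; rfl)
      map_mul' := fun z w => Subtype.ext (map_mul β _ _) }
  have hβ2 : ∀ z, ((β2 z : P2) : R0 × R) = β z := fun _ => rfl
  have hβ2k : ∀ (k : ℕ) z, (((β2 ^ k) z : P2) : R0 × R) = (β ^ k) z := by
    intro k
    induction k with
    | zero => intro z; rfl
    | succ k ih => intro z; rw [pow_succ', MulAut.mul_apply, hβ2, ih, pow_succ']; rfl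
  have hfst : Function.Surjective ((MonoidHom.fst R0 R).comp P2.subtype) := fun x => by
    obtain ⟨z, hz, hzx⟩ := (hP1 ▸ Subgroup.mem_top x : x ∈ P2.map (MonoidHom.fst R0 R))
    exact ⟨⟨z, hz⟩, hzx⟩
  have hP2pair : IsSPair p q β2 := by
    refine ⟨?_, MulEquiv.ext fun z => Subtype.ext ?_, fun e => h0.ne_one (MulEquiv.ext fun x => ?_),
      fun H hH hinv z hz => Subtype.ext ?_⟩
    · obtain ⟨i, hi⟩ := IsPGroup.iff_card.1 h0.isP
      obtain ⟨j, hj⟩ := IsPGroup.iff_card.1 h.isP
      exact IsPGroup.to_subgroup (IsPGroup.of_card (n := i + j)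
        (by rw [Nat.card_prod, hi, hj, pow_add])) _
    · rw [hβ2k, hβq]; rfl
    · obtain ⟨z, rfl⟩ := hfst x
      exact congrArg (fun f : MulAut P2 => ((f z : P2) : R0 × R).1) e
    · set H' := H.map P2.subtype with hH'
      have hH'inv : ∀ w ∈ H', β w ∈ H' := by
        rintro _ ⟨w, hw, rfl⟩
        exact ⟨β2 w, hinv w hw, rfl⟩
      have hH'le : H' ≤ P2 := Subgroup.map_subtype_le H
      have hzH' : (z : R0 × R) ∈ H' := ⟨z, hz, rfl⟩
      let W : AddSubgroup (GaloisField p a) :=
        Subgroup.toAddSubgroup' (H'.map (θ0.comp (MonoidHom.fst R0 R)))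
      have hWinv : ∀ w ∈ W, l * w ∈ W := by
        rintro w ⟨v, hv, hvw⟩
        refine ⟨β v, hH'inv v hv, ?_⟩
        apply Multiplicative.toAdd.injective
        show (θ0 (α0 v.1)).toAdd = _
        rw [hθ0, show θ0 v.1 = Multiplicative.ofAdd w from hvw]
        rfl
      by_cases hW : W = ⊥
      · have h1 : θ0 (z : R0 × R).1 = 1 := by
          have h2 : (θ0 (z : R0 × R).1).toAdd ∈ W := ⟨(z : R0 × R), hzH', rfl⟩
          rw [hW, AddSubgroup.mem_bot] at h2
          exact Multiplicative.toAdd.injective h2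
        have h2 : θ (z : R0 × R).2 = 1 := (hPD z.2).symm.trans h1
        rw [← MonoidHom.mem_ker] at h1 h2
        rw [hk0] at h1; rw [hk] at h2
        rw [hβ2, hβ, h0.commutator_fixed _ h1, h.commutator_fixed _ h2]
      · exfalso
        have htop := eq_top_of_invariant ha0 ha hl hWinv hW
        have hproj : good H' := by
          refine ⟨hH'le.trans hPD, hH'inv, ?_, ?_⟩
          · by_contra hne
            obtain ⟨v, hv, hv1⟩ := (htop ▸ AddSubgroup.mem_top (1 : GaloisField p a) :
              (1 : GaloisField p a) ∈ W)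
            have := h0.fixed _ hne (by rintro _ ⟨w, hw, rfl⟩; exact ⟨β w, hH'inv w hw, rfl⟩)
              v.1 ⟨v, hv, rfl⟩
            have h3 := hθ0 v.1
            rw [this, show θ0 v.1 = Multiplicative.ofAdd 1 from hv1, toAdd_ofAdd, mul_one] at h3
            exact hl1 h3.symm
          · by_contra hne
            obtain ⟨v, hv, hv1⟩ := (htop ▸ AddSubgroup.mem_top (1 : GaloisField p a) :
              (1 : GaloisField p a) ∈ W)
            have := h.fixed _ hne (by rintro _ ⟨w, hw, rfl⟩; exact ⟨β w, hH'inv w hw, rfl⟩)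
              v.2 ⟨v, hv, rfl⟩
            have h3 := hθ v.2
            rw [this, ← show θ0 v.1 = θ v.2 from hPD (hH'le hv),
              show θ0 v.1 = Multiplicative.ofAdd 1 from hv1, toAdd_ofAdd, mul_one] at h3
            exact hl1 h3.symm
        apply hH
        refine (Subgroup.eq_top_iff' _).2 fun w => ?_
        have hw2 : (w : R0 × R) ∈ H' := by rw [hmin H' hproj hH'le]; exact w.2
        obtain ⟨w', hw', he⟩ := hw2
        exact (Subtype.ext he : w' = w) ▸ hw'
  let θ2 : P2 →* Multiplicative (GaloisField p a) :=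
    θ0.comp ((MonoidHom.fst R0 R).comp P2.subtype)
  have hs2 : Function.Surjective θ2 := hs0.comp hfst
  have hle := hP2pair.card_le hpq ha0 ha hl θ2 hs2 (hP2pair.ker_eq_commutator hpq ha0 ha θ2 hs2)
    fun z => hθ0 _
  have hbij : Function.Bijective ((MonoidHom.fst R0 R).comp P2.subtype) :=
    (Nat.bijective_iff_surjective_and_card _).2
      ⟨hfst, le_antisymm (hle.trans hcard) (Nat.card_le_card_of_surjective _ hfst)⟩
  let e : P2 ≃* R0 := MulEquiv.ofBijective _ hbij
  have he : ∀ z : P2, e z = (z : R0 × R).1 := fun _ => rfl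
  have hee : ∀ x, ((e.symm x : P2) : R0 × R).1 = x := fun x => by rw [← he, e.apply_symm_apply]
  refine ⟨(MonoidHom.snd R0 R).comp (P2.subtype.comp e.symm.toMonoidHom), ?_, fun x => ?_,
    fun x hx => ?_⟩
  · intro y
    obtain ⟨z, hz, hzy⟩ := (hP2 ▸ Subgroup.mem_top y : y ∈ P2.map (MonoidHom.snd R0 R))
    exact ⟨e ⟨z, hz⟩, by simpa using hzy⟩
  · have : e.symm (α0 x) = β2 (e.symm x) := by
      apply e.injective
      rw [e.apply_symm_apply, he, hβ2, hβ, hee]
    show ((e.symm (α0 x) : P2) : R0 × R).2 = α ((e.symm x : P2) : R0 × R).2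
    rw [this, hβ2, hβ]
  · have hx' : ((e.symm x : P2) : R0 × R).2 = 1 := hx
    have hmem : θ0 ((e.symm x : P2) : R0 × R).1 = θ ((e.symm x : P2) : R0 × R).2 :=
      hPD (e.symm x).2
    rw [hee, hx', map_one, ← MonoidHom.mem_ker, hk0] at hmem
    exact ⟨h0.commutator_central hpq hmem, h0.commutator_fixed _ hmem⟩

/-- A subgroup with a central `p'`-subgroup of index prime to `q` has a normal `p`-complement. -/
theorem hasNPC_of_central {G : Type*} [Group G] [Finite G] {s r : ℕ} (hpq : p ≠ q)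
    (hG : Nat.card G = p ^ s * q ^ r) (K C : Subgroup G) (hC : Nat.card C ∣ q ^ r)
    (hcen : ∀ c ∈ C, c ∈ K → ∀ k ∈ K, k * c = c * k) (hidx : ¬ q ∣ C.relIndex K) :
    HasNormalPComplement p K := by
  have hn : (C.subgroupOf K).Normal := ⟨fun c hc k => by
    rw [Subgroup.mem_subgroupOf] at hc ⊢
    rw [Subgroup.coe_mul, Subgroup.coe_mul, hcen _ hc c.2 _ k.2, Subgroup.coe_inv,
      mul_inv_cancel_right]
    exact hc⟩
  refine hasNormalPComplement_iff_exists.2 ⟨C.subgroupOf K, hn, ?_, ?_⟩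
  · refine Nat.Coprime.coprime_dvd_left ((Subgroup.card_comap_dvd_of_injective C K.subtype
      K.subtype_injective).trans hC) ?_
    exact Nat.Coprime.pow_left r ((Nat.coprime_primes Fact.out Fact.out).2 hpq.symm)
  · have h1 : C.relIndex K ∣ p ^ s * q ^ r :=
      hG ▸ ((C.subgroupOf K).index_dvd_card.trans K.card_subgroup_dvd_card)
    have h2 : C.relIndex K ∣ p ^ s :=
      (Nat.Coprime.pow_right r (((Fact.out : q.Prime).coprime_iff_not_dvd.2 hidx).symm)).dvd_of_dvd_mul_right h1
    obtain ⟨k, -, hk⟩ := (Nat.dvd_prime_pow (Fact.out : p.Prime)).1 h2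
    exact ⟨k, hk⟩

/-- The group built from an `IsSPair` is minimal non-`p`-nilpotent. -/
theorem minimal_of_spair {G : Type*} [Group G] [Finite G] {s r : ℕ} (hpq : p ≠ q)
    (N : Subgroup G) [N.Normal] (u : G) (hN : Nat.card N = p ^ s) (hu : orderOf u = q ^ r)
    (hG : Nat.card G = p ^ s * q ^ r) (hgen : N ⊔ Subgroup.zpowers u = ⊤)
    (h : IsSPair p q (MulAut.conjNormal u : MulAut N)) :
    ¬ HasNormalPComplement p G ∧ ∀ K : Subgroup G, K ≠ ⊤ → HasNormalPComplement p K := by
  have hcop : (p : ℕ).Coprime q := (Nat.coprime_primes Fact.out Fact.out).2 hpq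
  constructor
  · intro hcon
    obtain ⟨C, hC, hCc, k, hk⟩ := hasNormalPComplement_iff_exists.1 hcon
    have huC : u ∈ C := by
      refine mem_of_pow_mem ?_ (hk ▸ C.pow_index_mem u)
      rw [hu]
      exact Nat.Coprime.pow _ _ hcop.symm
    have hdis : Disjoint N C := by
      rw [disjoint_iff]
      refine Subgroup.card_eq_one.1 (Nat.eq_one_of_dvd_coprimes
        (Nat.Coprime.pow_right s hCc).symm ?_ ?_)
      · exact hN ▸ Subgroup.card_dvd_of_le inf_le_left
      · exact Subgroup.card_dvd_of_le inf_le_right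
    refine h.ne_one (MulEquiv.ext fun n => Subtype.ext ?_)
    rw [MulAut.conjNormal_apply, MulAut.one_apply,
      ← (Subgroup.commute_of_normal_of_disjoint N C inferInstance hC hdis n u n.2 huC).eq,
      mul_inv_cancel_right]
  · intro K hK
    have hdec : ∀ g : G, ∃ n ∈ N, ∃ m : ℤ, g = n * u ^ m := by
      intro g
      obtain ⟨n, hn, z, ⟨m, rfl⟩, rfl⟩ :=
        Subgroup.mem_sup_of_normal_left.1 (hgen ▸ Subgroup.mem_top g : g ∈ N ⊔ Subgroup.zpowers u)
      exact ⟨n, hn, m, rfl⟩
    -- `u ^ q` is central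
    have huq : ∀ g : G, Commute g (u ^ q) := by
      intro g
      obtain ⟨n, hn, m, rfl⟩ := hdec g
      refine Commute.mul_left ?_ ((Commute.self_pow u q).zpow_left m)
      have := congrArg (fun f : MulAut N => ((f ⟨n, hn⟩ : N) : G)) h.pow_eq
      simp only [← map_pow, MulAut.conjNormal_apply, MulAut.one_apply] at this
      exact (eq_mul_inv_iff_mul_eq.1 this.symm)
    set M := Subgroup.zpowers (u ^ q) with hM
    have hMcen : ∀ c ∈ M, ∀ g : G, g * c = c * g := by
      rintro _ ⟨m, rfl⟩ g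
      exact ((huq g).zpow_right m).eq
    have hMcard : Nat.card M ∣ q ^ r := by
      rw [hM, Nat.card_zpowers, ← hu]; exact orderOf_pow_dvd q
    obtain ⟨S⟩ : Nonempty (Sylow q K) := inferInstance
    by_cases hSM : ∀ g ∈ (S : Subgroup K), (g : G) ∈ M
    · refine hasNPC_of_central hpq hG K M hMcard (fun c hc _ k _ => hMcen c hc k) fun hd => ?_
      exact S.not_dvd_index (hd.trans (Subgroup.index_dvd_of_le fun g hg => hSM g hg))
    push Not at hSM
    obtain ⟨g, hgS, hgM⟩ := hSM
    -- a conjugate of `u` lies in `K`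
    have hU : Nat.card (Subgroup.zpowers u) = q ^ r := by rw [Nat.card_zpowers, hu]
    have hUidx : ¬ q ∣ (Subgroup.zpowers u).index := by
      have h1 := (Subgroup.zpowers u).card_mul_index
      rw [hU, hG, mul_comm] at h1
      rw [Nat.eq_of_mul_eq_mul_right (Nat.pow_pos (Fact.out : q.Prime).pos) h1]
      exact fun hd => hpq (((Nat.prime_dvd_prime_iff_eq Fact.out Fact.out).1
        ((Fact.out : q.Prime).dvd_of_dvd_pow hd))).symm
    let U : Sylow q G := (IsPGroup.of_card hU).toSylow hUidx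
    obtain ⟨k, hk⟩ := IsPGroup.iff_orderOf.1 S.2 ⟨g, hgS⟩
    have hgq : IsPGroup q (Subgroup.zpowers (g : G)) := IsPGroup.of_card (n := k) (by
      rw [Nat.card_zpowers, Subgroup.orderOf_coe, ← hk]; exact Subgroup.orderOf_coe ⟨g, hgS⟩)
    obtain ⟨T, hT⟩ := hgq.exists_le_sylow
    obtain ⟨c, hc⟩ := MulAction.exists_smul_eq G U T
    have hgT : (g : G) ∈ (T : Subgroup G) := hT (Subgroup.mem_zpowers _)
    rw [← hc, Sylow.coe_subgroup_smul, Subgroup.mem_pointwise_smul_iff_inv_smul_mem] at hgT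
    have hgU : c⁻¹ * g * c ∈ Subgroup.zpowers u := by
      simpa [U, MulAut.conj_apply] using hgT
    obtain ⟨j, hj⟩ := Subgroup.mem_zpowers_iff.1 hgU
    have hjq : ¬ (q : ℤ) ∣ j := by
      rintro ⟨j', rfl⟩
      apply hgM
      have hmem : u ^ ((q : ℤ) * j') ∈ M := ⟨j', by rw [zpow_mul, zpow_natCast]⟩
      have h2 := hMcen _ hmem c
      have : (g : G) = c * u ^ ((q : ℤ) * j') * c⁻¹ := by rw [hj]; group
      rw [this, h2, mul_inv_cancel_right]
      exact hmem
    obtain ⟨n, hn, m, hcn⟩ := hdec c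
    set v := n * u * n⁻¹ with hv
    have hvK : v ∈ K := by
      have hco : IsCoprime j ((q : ℤ) ^ r) :=
        (((Nat.prime_iff_prime_int.1 Fact.out).coprime_iff_not_dvd.2 hjq).symm).pow_right
      obtain ⟨x, y, hxy⟩ := hco
      have h1 : u = (u ^ j) ^ x := by
        rw [← zpow_mul]
        conv_lhs => rw [← zpow_one u, ← hxy, zpow_add, mul_comm y, zpow_mul u ((q : ℤ) ^ r),
          ← Nat.cast_pow, zpow_natCast, ← hu, pow_orderOf_eq_one, one_zpow, mul_one, mul_comm x]
      have h2 : v = c * u * c⁻¹ := by rw [hcn, hv]; group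
      rw [h2, h1, hj, ← conj_zpow]
      refine K.zpow_mem ?_ x
      convert g.2 using 1
      group
    -- it centralises `N ⊓ K`
    set H : Subgroup N := (K.subgroupOf N).map (MulAut.conjNormal (n⁻¹) : MulAut N).toMonoidHom
      with hH
    have hHmem : ∀ x : N, x ∈ H ↔ n * x * n⁻¹ ∈ K := by
      intro x
      rw [hH, Subgroup.mem_map_equiv, Subgroup.mem_subgroupOf, MulAut.conjNormal_symm_apply, inv_inv]
    have hHne : H ≠ ⊤ := by
      intro e
      apply hK
      have hNK : N ≤ K := fun x hx => by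
        have := (hHmem ⟨n⁻¹ * x * n, by simpa using ‹N.Normal›.conj_mem x hx n⁻¹⟩).1
          (e ▸ Subgroup.mem_top _)
        simpa [mul_assoc] using this
      have huK : u ∈ K := by
        have : u = n⁻¹ * v * n := by rw [hv]; group
        rw [this]
        exact K.mul_mem (K.mul_mem (K.inv_mem (hNK hn)) hvK) (hNK hn)
      rw [eq_top_iff, ← hgen]
      exact sup_le hNK (Subgroup.zpowers_le.2 huK)
    have hHfix := h.fixed H hHne fun x hx => by
      rw [hHmem] at hx ⊢
      rw [MulAut.conjNormal_apply,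
        show n * (u * x * u⁻¹) * n⁻¹ = v * (n * x * n⁻¹) * v⁻¹ by rw [hv]; group]
      exact K.mul_mem (K.mul_mem hvK hx) (K.inv_mem hvK)
    have hvcen : ∀ k ∈ K, Commute k v := by
      intro k hk
      obtain ⟨n1, hn1, m1, hk1⟩ := hdec k
      have hy : k * (v ^ m1)⁻¹ ∈ N := by
        have e : k * (v ^ m1)⁻¹ = n1 * (u ^ m1 * n * (u ^ m1)⁻¹) * n⁻¹ := by
          rw [hk1, hv, conj_zpow]; group
        rw [e]
        exact N.mul_mem (N.mul_mem hn1 (‹N.Normal›.conj_mem n hn _)) (N.inv_mem hn)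
      set y := k * (v ^ m1)⁻¹ with hydef
      have hyK : y ∈ K := K.mul_mem hk (K.inv_mem (K.zpow_mem hvK m1))
      set x : N := ⟨n⁻¹ * y * n, by simpa using ‹N.Normal›.conj_mem y hy n⁻¹⟩ with hx
      have hxH : x ∈ H := (hHmem x).2 (by simpa [hx, mul_assoc] using hyK)
      have h3 : u * (n⁻¹ * y * n) * u⁻¹ = n⁻¹ * y * n := congrArg Subtype.val (hHfix x hxH)
      have hyv : Commute y v := by
        have h4 : v * y * v⁻¹ = y := by
          calc v * y * v⁻¹ = n * (u * (n⁻¹ * y * n) * u⁻¹) * n⁻¹ := by rw [hv]; group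
            _ = y := by rw [h3]; group
        exact (mul_inv_eq_iff_eq_mul.1 h4).symm
      rw [show k = y * v ^ m1 by rw [hydef, inv_mul_cancel_right]]
      exact hyv.mul_left (Commute.zpow_self v m1)
    have hvord : Nat.card (Subgroup.zpowers v) = q ^ r := by
      rw [Nat.card_zpowers, hv, show n * u * n⁻¹ = MulAut.conj n u from rfl,
        MulEquiv.orderOf_eq, hu]
    refine hasNPC_of_central hpq hG K (Subgroup.zpowers v) hvord.dvd ?_ ?_
    · rintro _ ⟨i, rfl⟩ _ k hk
      exact ((hvcen k hk).zpow_right i).eq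
    · have hle : Subgroup.zpowers v ≤ K := Subgroup.zpowers_le.2 hvK
      have h5 : Nat.card (Subgroup.zpowers v) * (Subgroup.zpowers v).relIndex K = Nat.card K := by
        rw [← Nat.card_congr (Subgroup.subgroupOfEquivOfLe hle).toEquiv]
        exact Subgroup.card_mul_index _
      have h6 : Nat.card K ∣ p ^ s * q ^ r := hG ▸ K.card_subgroup_dvd_card
      rw [← h5, hvord, mul_comm (p ^ s)] at h6
      intro hd
      have := hd.trans (Nat.dvd_of_mul_dvd_mul_left (Nat.pow_pos (Fact.out : q.Prime).pos) h6)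
      exact hpq ((Nat.prime_dvd_prime_iff_eq Fact.out Fact.out).1
        ((Fact.out : q.Prime).dvd_of_dvd_pow this)).symm

/-- The `IsSPair` inside a minimal non-`p`-nilpotent group. -/
theorem exists_spair_of_minimal {X : Type*} [Group X] [Finite X] {t r : ℕ} (hpq : p ≠ q)
    (hX : ¬ HasNormalPComplement p X ∧ ∀ K : Subgroup X, K ≠ ⊤ → HasNormalPComplement p K)
    (hcard : Nat.card X = p ^ t * q ^ r) :
    ∃ (P : Subgroup X) (_ : P.Normal) (x : X), Nat.card P = p ^ t ∧ orderOf x = q ^ r ∧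
      P ⊔ Subgroup.zpowers x = ⊤ ∧ IsSPair p q (MulAut.conjNormal x : MulAut P) := by
  obtain ⟨hnil, -, hnor⟩ := Cfsg.Agent.S0132.result hX.1 hX.2
  have hcop : (p : ℕ).Coprime q := (Nat.coprime_primes Fact.out Fact.out).2 hpq
  obtain ⟨S⟩ : Nonempty (Sylow p X) := inferInstance
  obtain ⟨T⟩ : Nonempty (Sylow q X) := inferInstance
  have hSn : (S : Subgroup X).Normal := hnor S
  have hScard : Nat.card S = p ^ t := by
    rw [S.card_eq_multiplicity, hcard, Nat.factorization_mul
      (pow_ne_zero _ (Fact.out : p.Prime).ne_zero) (pow_ne_zero _ (Fact.out : q.Prime).ne_zero),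
      Finsupp.add_apply, (Fact.out : p.Prime).factorization_pow, (Fact.out : q.Prime).factorization_pow,
      Finsupp.single_eq_same, Finsupp.single_eq_of_ne hpq, add_zero]
  have hTcard : Nat.card T = q ^ r := by
    rw [T.card_eq_multiplicity, hcard, Nat.factorization_mul
      (pow_ne_zero _ (Fact.out : p.Prime).ne_zero) (pow_ne_zero _ (Fact.out : q.Prime).ne_zero),
      Finsupp.add_apply, (Fact.out : p.Prime).factorization_pow, (Fact.out : q.Prime).factorization_pow,
      Finsupp.single_eq_same, Finsupp.single_eq_of_ne hpq.symm, zero_add]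
  set P : Subgroup X := (S : Subgroup X) with hP
  have hPcard : Nat.card P = p ^ t := hScard
  -- bounding joins
  have hjoin : ∀ (H : Subgroup X) (z : X), z ∈ Subgroup.normalizer (H : Set X) →
      Nat.card (H ⊔ Subgroup.zpowers z : Subgroup X) ≤ Nat.card H * orderOf z := by
    intro H z hz
    rw [← Nat.card_zpowers]
    have := Subgroup.coe_mul_of_right_le_normalizer_left H (Subgroup.zpowers z)
      (Subgroup.zpowers_le.2 hz)
    rw [← SetLike.coe_sort_coe, this]
    exact Set.natCard_mul_le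
  have hmem : ∀ z : X, z ∈ Subgroup.normalizer (P : Set X) := fun z => by
    rw [Subgroup.normalizer_eq_top]; trivial
  have hcomm : ∀ (H : Subgroup X) (z : X), H ≤ P → (∃ k, orderOf z = q ^ k) →
      H ⊔ Subgroup.zpowers z ≠ ⊤ → ∀ h ∈ H, Commute h z := by
    intro H z hHP ⟨k, hk⟩ hne h hh
    haveI := hnil _ hne
    exact Cfsg.Agent.SolvStruct.Schmidt.commute_of_nilpotent hpq (S.2.to_le hHP)
      (IsPGroup.of_card (n := k) (by rw [Nat.card_zpowers, hk]))
      (Subgroup.mem_sup_left hh) (Subgroup.mem_sup_right (Subgroup.mem_zpowers z)) hh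
      (Subgroup.mem_zpowers z)
  have hordT : ∀ z ∈ (T : Subgroup X), ∃ k, orderOf z = q ^ k := fun z hz => by
    obtain ⟨k, hk⟩ := IsPGroup.iff_orderOf.1 T.2 ⟨z, hz⟩
    exact ⟨k, by rw [← hk, ← Subgroup.orderOf_coe]⟩
  obtain ⟨x, hxT, n, hnP, hnx⟩ : ∃ x ∈ (T : Subgroup X), ∃ n ∈ P, ¬ Commute n x := by
    by_contra hall
    push Not at hall
    apply hX.1
    have hPT : P ⊔ (T : Subgroup X) = ⊤ := by
      apply Subgroup.eq_top_of_card_eq
      refine Nat.dvd_antisymm (Subgroup.card_subgroup_dvd_card _) ?_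
      rw [hcard]
      exact (Nat.Coprime.pow t r hcop).mul_dvd_of_dvd_of_dvd
        (hPcard ▸ Subgroup.card_dvd_of_le le_sup_left)
        (hTcard ▸ Subgroup.card_dvd_of_le le_sup_right)
    have hTn : (T : Subgroup X).Normal := Subgroup.normalizer_eq_top_iff.1 (top_le_iff.1 (hPT ▸
      sup_le (le_trans (fun y hy => Subgroup.mem_centralizer_iff.2 fun z hz => ((hall z hz y hy)).symm.eq)
        (Subgroup.centralizer_le_normalizer _)) Subgroup.le_normalizer))
    refine hasNormalPComplement_iff_exists.2 ⟨_, hTn, ?_, t, ?_⟩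
    · rw [hTcard]; exact Nat.Coprime.pow_left r hcop.symm
    · have := (T : Subgroup X).card_mul_index
      rw [hTcard, hcard, mul_comm] at this
      exact Nat.eq_of_mul_eq_mul_right (Nat.pow_pos (Fact.out : q.Prime).pos) this
  obtain ⟨k, hk⟩ := hordT x hxT
  have htop : P ⊔ Subgroup.zpowers x = ⊤ := by
    by_contra hne
    exact hnx (hcomm P x le_rfl ⟨k, hk⟩ hne n hnP)
  have hord : orderOf x = q ^ r := by
    refine le_antisymm (Nat.le_of_dvd (Nat.pow_pos (Fact.out : q.Prime).pos) ?_) ?_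
    · rw [← hTcard, ← Nat.card_zpowers]
      exact Subgroup.card_dvd_of_le (Subgroup.zpowers_le.2 hxT)
    · have := hjoin P x (hmem x)
      rw [htop, Subgroup.card_top, hcard, hPcard] at this
      exact Nat.le_of_mul_le_mul_left this (Nat.pow_pos (Fact.out : p.Prime).pos)
  refine ⟨P, hSn, x, hPcard, hord, htop, S.2, ?_, ?_, ?_⟩
  · refine MulEquiv.ext fun w => Subtype.ext ?_
    rw [← map_pow, MulAut.conjNormal_apply, MulAut.one_apply]
    have hne : P ⊔ Subgroup.zpowers (x ^ q) ≠ ⊤ := by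
      intro e
      have := hjoin P (x ^ q) (hmem _)
      rw [e, Subgroup.card_top, hcard, hPcard] at this
      have h1 := Nat.le_of_mul_le_mul_left this (Nat.pow_pos (Fact.out : p.Prime).pos)
      have hr : r ≠ 0 := by
        intro e0
        rw [e0, pow_zero, orderOf_eq_one_iff] at hord
        exact hnx (hord ▸ Commute.one_right n)
      rw [orderOf_pow' x (Fact.out : q.Prime).ne_zero, hord,
        Nat.gcd_eq_right (dvd_pow_self q hr)] at h1
      have : q ^ r / q < q ^ r :=
        Nat.div_lt_self (Nat.pow_pos (Fact.out : q.Prime).pos) (Fact.out : q.Prime).one_lt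
      omega
    have hordq : ∃ k, orderOf (x ^ q) = q ^ k :=
      hordT _ ((T : Subgroup X).pow_mem hxT q)
    rw [← (hcomm P (x ^ q) le_rfl hordq hne w w.2).eq, mul_inv_cancel_right]
  · intro e
    have := congrArg (fun f : MulAut P => ((f ⟨n, hnP⟩ : P) : X)) e
    simp only [MulAut.conjNormal_apply, MulAut.one_apply] at this
    exact hnx (mul_inv_eq_iff_eq_mul.1 this).symm
  · intro H hH hinv w hw
    apply Subtype.ext
    rw [MulAut.conjNormal_apply]
    set H' := H.map P.subtype with hH'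
    have hwH : (w : X) ∈ H' := ⟨w, hw, rfl⟩
    have hnorm : x ∈ Subgroup.normalizer (H' : Set X) :=
      Subgroup.mem_normalizer_fintype (by
        rintro _ ⟨z, hz, rfl⟩
        exact ⟨_, hinv z hz, rfl⟩)
    have hne : H' ⊔ Subgroup.zpowers x ≠ ⊤ := by
      intro e
      have := hjoin H' x hnorm
      rw [e, Subgroup.card_top, hcard, hord] at this
      have h1 := Nat.le_of_mul_le_mul_right this (Nat.pow_pos (Fact.out : q.Prime).pos)
      rw [← hPcard, hH', Subgroup.card_map_of_injective P.subtype_injective] at h1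
      exact hH (Subgroup.eq_top_of_le_card _ h1)
    rw [← (hcomm H' x (Subgroup.map_subtype_le H) ⟨r, hord⟩ hne w hwH).eq, mul_inv_cancel_right]

end Cfsg.Agent.GenA.Redei
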